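import Cfsg.Agent.H170.L34.Nine

/-!
# Point systems and dual point systems (helper170, S5917, row M1)

`sys_cases` : a simple submodule with a non-zero point system is trivial or of type nine or of the dual type.
`sys_cases'` : the same for a line system.
-/

set_option autoImplicit false
set_option linter.unusedSectionVars false

namespace Cfsg.Agent.H170.L34

open Matrix Cfsg.Agent.H691.L34
open scoped MatrixGroups

section itc
variable {F : Type} [Field F]

theorem it_coe (g : G3 F) : ((it g : G3 F) : M3 F) = ((g⁻¹ : G3 F) : M3 F).transpose := rfl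

theorem it_it (g : G3 F) : it (it g) = g := by
  apply Subtype.ext
  show (((it g)⁻¹ : G3 F) : M3 F).transpose = (g : M3 F)
  rw [← map_inv, it_coe, inv_inv, transpose_transpose]

theorem it_dot (g : G3 F) (f u : Fin 3 → F) : (((it g : G3 F) : M3 F) *ᵥ f) ⬝ᵥ ((g : M3 F) *ᵥ u) = f ⬝ᵥ u := by
  rw [it_coe, Matrix.mulVec_transpose, ← Matrix.dotProduct_mulVec, Matrix.mulVec_mulVec,
    ← Matrix.SpecialLinearGroup.coe_mul, inv_mul_cancel, Matrix.SpecialLinearGroup.coe_one, Matrix.one_mulVec]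

theorem it_eq {g : G3 F} {f k : Fin 3 → F} (h : (g : M3 F).transpose *ᵥ k = f) : ((it g : G3 F) : M3 F) *ᵥ f = k := by
  rw [← h, it_coe, Matrix.mulVec_mulVec, ← Matrix.transpose_mul, ← Matrix.SpecialLinearGroup.coe_mul, mul_inv_cancel,
    Matrix.SpecialLinearGroup.coe_one, Matrix.transpose_one, Matrix.one_mulVec]

theorem mv_mul (a b : G3 F) (u : Fin 3 → F) : ((a * b : G3 F) : M3 F) *ᵥ u = (a : M3 F) *ᵥ ((b : M3 F) *ᵥ u) := by
  rw [Matrix.SpecialLinearGroup.coe_mul, Matrix.mulVec_mulVec]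

theorem mv_one (u : Fin 3 → F) : ((1 : G3 F) : M3 F) *ᵥ u = u := by
  rw [Matrix.SpecialLinearGroup.coe_one, Matrix.one_mulVec]

/-- the permutation of the vectors -/
def mvE (g : G3 F) : (Fin 3 → F) ≃ (Fin 3 → F) where
  toFun u := (g : M3 F) *ᵥ u
  invFun u := ((g⁻¹ : G3 F) : M3 F) *ᵥ u
  left_inv u := by
    show ((g⁻¹ : G3 F) : M3 F) *ᵥ ((g : M3 F) *ᵥ u) = u
    rw [← mv_mul, inv_mul_cancel, mv_one]
  right_inv u := by
    show (g : M3 F) *ᵥ (((g⁻¹ : G3 F) : M3 F) *ᵥ u) = u
    rw [← mv_mul, mul_inv_cancel, mv_one]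

theorem mvE_apply (g : G3 F) (u : Fin 3 → F) : mvE g u = (g : M3 F) *ᵥ u := rfl

theorem mv_eq_zero (g : G3 F) (u : Fin 3 → F) : (g : M3 F) *ᵥ u = 0 ↔ u = 0 := by
  constructor
  · intro h
    apply (mvE g).injective
    rw [mvE_apply, mvE_apply, h, Matrix.mulVec_zero]
  · rintro rfl
    exact Matrix.mulVec_zero _

end itc

section twist

variable {F : Type} [Field F] {V : Type} [AddCommGroup V] [Module (ZMod 2) V]
  {ρ : Representation (ZMod 2) (G3 F) V}

/-- the twisted representation -/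
def rt (ρ : Representation (ZMod 2) (G3 F) V) : Representation (ZMod 2) (G3 F) V := MonoidHom.comp ρ it

theorem rt_apply (g : G3 F) : rt ρ g = ρ (it g) := rfl

theorem rt_it (g : G3 F) : rt ρ (it g) = ρ g := by rw [rt_apply, it_it]

theorem inv_rt {X : Submodule (ZMod 2) V} (h : Inv (rt ρ) X) : Inv ρ X := fun g w hw => by
  rw [← rt_it]
  exact h (it g) w hw

theorem simp_rt {W : Submodule (ZMod 2) V} (h : Simp ρ W) : Simp (rt ρ) W :=
  ⟨fun g w hw => h.1 (it g) w hw, h.2.1, fun X hX hXW => h.2.2 X (inv_rt hX) hXW⟩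

theorem nine_rt {W : Submodule (ZMod 2) V} (h : IsNine (rt ρ) false W) : IsNine ρ true W := by
  obtain ⟨φ, h1, h2, h3, h4⟩ := h
  refine ⟨φ, h1, h2, h3, fun g X hX => ?_⟩
  have h5 := h4 (it g) X hX
  rw [rt_it] at h5
  exact h5

theorem nine_rt' {W : Submodule (ZMod 2) V} (h : IsNine (rt ρ) true W) : IsNine ρ false W := by
  obtain ⟨φ, h1, h2, h3, h4⟩ := h
  refine ⟨φ, h1, h2, h3, fun g X hX => ?_⟩
  have h5 := h4 (it g) X hX
  rw [rt_it] at h5
  have e : tw true (it g) = g := it_it g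
  rw [h5, e]
  rfl

end twist

section dual

variable {F : Type} [Field F] [Fintype F] [DecidableEq F] {V : Type} [AddCommGroup V] [Module (ZMod 2) V]
  {ρ : Representation (ZMod 2) (G3 F) V} {x : (Fin 3 → F) → V}

/-- the dual system -/
def dz (x : (Fin 3 → F) → V) (f : Fin 3 → F) : V := if f = 0 then 0 else ∑ u with f ⬝ᵥ u = 0, x u

theorem dz_sys (hx : PSys ρ x) : PSys (rt ρ) (dz x) where
  zero := if_pos rfl
  smul c f hc := by
    unfold dz
    by_cases hf : f = 0
    · rw [hf, smul_zero]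
    · rw [if_neg hf, if_neg (smul_ne_zero hc hf)]
      refine Finset.sum_congr ?_ fun _ _ => rfl
      ext u
      rw [Finset.mem_filter, Finset.mem_filter, smul_dotProduct, smul_eq_mul, mul_eq_zero, or_iff_right hc]
  act g f := by
    unfold dz
    by_cases hf : f = 0
    · rw [hf, Matrix.mulVec_zero, if_pos rfl, map_zero]
    · rw [if_neg hf, if_neg (fun h => hf ((mv_eq_zero g f).1 h)), map_sum, Finset.sum_filter, Finset.sum_filter,
        ← Equiv.sum_comp (mvE (it g)) (fun u => if ((g : M3 F) *ᵥ f) ⬝ᵥ u = 0 then x u else 0)]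
      refine Finset.sum_congr rfl fun u _ => ?_
      have e := it_dot (it g) f u
      rw [it_it] at e
      rw [mvE_apply, e, rt_apply, hx.act]

theorem J_fix (hx : PSys ρ x) (g : G3 F) : ρ g (∑ u, x u) = ∑ u, x u := by
  rw [map_sum, ← Equiv.sum_comp (mvE g) x]
  exact Finset.sum_congr rfl fun u _ => hx.act g u

theorem exists_perp (u v : Fin 3 → F) : ∃ f : Fin 3 → F, f ≠ 0 ∧ u ⬝ᵥ f = 0 ∧ f ⬝ᵥ v = 0 := by
  obtain ⟨f, hf, h⟩ := (Matrix.exists_mulVec_eq_zero_iff (M := !![u 0, u 1, u 2; v 0, v 1, v 2; 0, 0, 0])).2 (by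
    rw [Matrix.det_fin_three]; simp)
  refine ⟨f, hf, ?_, ?_⟩
  · have := congrFun h 0
    simp [Matrix.mulVec, dotProduct, Fin.sum_univ_three] at this
    rw [dotProduct, Fin.sum_univ_three]
    exact this
  · have := congrFun h 1
    simp [Matrix.mulVec, dotProduct, Fin.sum_univ_three] at this
    rw [dotProduct, Fin.sum_univ_three]
    linear_combination this

theorem dz_line (h2 : ∀ f : Fin 3 → F, f + f = 0) (u₀ : Fin 3 → F) :
    ∑ f with u₀ ⬝ᵥ f = 0, dz x f = ∑ u, x u := by
  have h1 : ∑ f with u₀ ⬝ᵥ f = 0, ∑ u with f ⬝ᵥ u = 0, x u = 0 := by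
    have e : ∀ f : Fin 3 → F, ∑ u with f ⬝ᵥ u = 0, x u = ∑ u, if f ⬝ᵥ u = 0 then x u else 0 := fun f =>
      Finset.sum_filter _ _
    simp only [e]
    rw [Finset.sum_comm]
    refine Finset.sum_eq_zero fun u _ => ?_
    rw [← Finset.sum_filter, Finset.filter_filter]
    obtain ⟨f₁, h0, ha, hb⟩ := exists_perp u₀ u
    refine Finset.sum_involution (fun f _ => f + f₁) ?_ ?_ ?_ ?_
    · intro f _
      exact self_add _
    · intro f _ _ he
      exact h0 (by simpa using he)
    · intro f hf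
      rw [Finset.mem_filter] at hf ⊢
      refine ⟨Finset.mem_univ _, ?_, ?_⟩
      · rw [dotProduct_add, hf.2.1, ha, add_zero]
      · rw [add_dotProduct, hf.2.2, hb, add_zero]
    · intro f _
      show f + f₁ + f₁ = f
      rw [add_assoc, h2, add_zero]
  have h3 : ∀ f : Fin 3 → F, ∑ u with f ⬝ᵥ u = 0, x u = dz x f + if f = 0 then ∑ u, x u else 0 := by
    intro f
    unfold dz
    by_cases hf : f = 0
    · rw [if_pos hf, if_pos hf, zero_add, hf]
      refine Finset.sum_congr ?_ fun _ _ => rfl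
      rw [Finset.filter_true_of_mem]
      intro u _
      exact zero_dotProduct u
    · rw [if_neg hf, if_neg hf, add_zero]
  simp only [h3] at h1
  rw [Finset.sum_add_distrib, Finset.sum_ite_eq' (Finset.univ.filter fun f => u₀ ⬝ᵥ f = 0) 0 (fun _ => ∑ u, x u), if_pos] at h1
  · have h5 := self_add (∑ u, x u)
    rw [← h5] at h1
    exact add_right_cancel h1
  · rw [Finset.mem_filter]
    exact ⟨Finset.mem_univ _, dotProduct_zero _⟩

end dual

section main

variable {F : Type} [Field F] [Fintype F] {V : Type} [AddCommGroup V] [Module (ZMod 2) V] [Module.Finite (ZMod 2) V]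
  {ρ : Representation (ZMod 2) (G3 F) V}

theorem sys_cases (hF : Fintype.card F = 4) {W : Submodule (ZMod 2) V} (hW : Simp ρ W) {x : (Fin 3 → F) → V}
    (hx : PSys ρ x) (hxW : ∀ u, x u ∈ W) (hne : ∃ u, x u ≠ 0) :
    (∀ v ∈ W, ∀ g, ρ g v = v) ∨ IsNine ρ false W ∨ IsNine ρ true W := by
  classical
  obtain ⟨p, q, h⟩ := exists_four hF
  have hsub : ∀ (y : (Fin 3 → F) → V) (f : Fin 3 → F), ∑ᶠ u : {u : Fin 3 → F // f ⬝ᵥ u = 0}, y u =
      ∑ u with f ⬝ᵥ u = 0, y u := by
    intro y f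
    rw [finsum_eq_sum_of_fintype, ← Finset.sum_subtype_eq_sum_filter, Finset.subtype_univ]
  by_cases hz : ∀ f, dz x f = 0
  · refine Or.inr (Or.inl (nine_of_sys hF hW hx hxW hne fun f hf => ?_))
    have h3 := hz f
    rw [dz, if_neg hf] at h3
    rw [hsub, h3]
  · have h2 : ∀ f : Fin 3 → F, f + f = 0 := by
      intro f
      ext i
      show f i + f i = 0
      linear_combination f i * h.aoo
    by_cases hJ : ∑ u, x u = 0
    · refine Or.inr (Or.inr (nine_rt (nine_of_sys hF (simp_rt hW) (dz_sys hx) (fun f => ?_) ?_ fun u hu => ?_)))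
      · rw [dz]
        split_ifs
        · exact W.zero_mem
        · exact W.sum_mem fun u _ => hxW u
      · push Not at hz
        exact hz
      · rw [hsub, dz_line h2, hJ]
    · left
      have hInv : Inv ρ (fixAll ρ ⊓ W) := by
        intro g w hw
        have e : ρ g w = w := hw.1 g
        rw [e]
        exact hw
      rcases hW.2.2 _ hInv inf_le_right with h3 | h3
      · exfalso
        have h5 : (∑ u, x u) ∈ fixAll ρ ⊓ W := ⟨fun g => J_fix hx g, W.sum_mem fun u _ => hxW u⟩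
        rw [h3, Submodule.mem_bot] at h5
        exact hJ h5
      · intro v hv g
        rw [← h3] at hv
        exact hv.1 g

theorem sys_cases' (hF : Fintype.card F = 4) {W : Submodule (ZMod 2) V} (hW : Simp ρ W) {x : (Fin 3 → F) → V}
    (hx : PSys (rt ρ) x) (hxW : ∀ u, x u ∈ W) (hne : ∃ u, x u ≠ 0) :
    (∀ v ∈ W, ∀ g, ρ g v = v) ∨ IsNine ρ false W ∨ IsNine ρ true W := by
  rcases sys_cases hF (simp_rt hW) hx hxW hne with h | h | h
  · left
    intro v hv g
    have h3 := h v hv (it g)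
    rw [rt_it] at h3
    exact h3
  · exact Or.inr (Or.inr (nine_rt h))
  · exact Or.inr (Or.inl (nine_rt' h))

end main

end Cfsg.Agent.H170.L34
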