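import Mathlib

/-!
# The projective plane of order four: functions with vanishing line sums (helper170, S5917)

`F` a field with four elements, `y : F³ → W` constant on the non-zero multiples of a vector, `y 0 = 0`, `W` an
`F_2`-space, and the sum of `y` over every plane `f ⬝ u = 0` is zero. Then the values of `y` span a space of dimension at
most `11` (`finrank_le`).
-/

set_option autoImplicit false
set_option linter.unusedSimpArgs false

namespace Cfsg.Agent.H170.L34

open Module

/-- the four elements `0, 1, p, q` of `F` -/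
structure Four {F : Type*} [Field F] (p q : F) : Prop where
  pp : p * p = q
  pq : p * q = 1
  qp : q * p = 1
  qq : q * q = p
  aoo : (1 : F) + 1 = 0
  app : p + p = 0
  aqq : q + q = 0
  aop : 1 + p = q
  apo : p + 1 = q
  aoq : 1 + q = p
  aqo : q + 1 = p
  apq : p + q = 1
  aqp : q + p = 1
  p0 : p ≠ 0
  q0 : q ≠ 0
  p1 : p ≠ 1
  q1 : q ≠ 1
  pneq : p ≠ q
  all : ∀ a : F, a = 0 ∨ a = 1 ∨ a = p ∨ a = q

theorem exists_four {F : Type*} [Field F] [Fintype F] (hF : Fintype.card F = 4) : ∃ p q : F, Four p q := by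
  classical
  have hp2 : (2 : F) = 0 := by
    have h := Nat.cast_card_eq_zero F
    rw [hF] at h
    have h1 : (2 : F) * 2 = 0 := by
      have : ((4 : ℕ) : F) = 2 * 2 := by norm_num
      rw [← this]; exact h
    exact mul_self_eq_zero.1 h1
  have h3 : ∃ p : F, p ≠ 0 ∧ p ≠ 1 := by
    by_contra hcon
    push Not at hcon
    have : (Finset.univ : Finset F) ⊆ {0, 1} := fun x _ => by
      by_cases hx : x = 0
      · rw [hx]; exact Finset.mem_insert_self _ _
      · rw [hcon x hx]; exact Finset.mem_insert_of_mem (Finset.mem_singleton_self _)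
    have h := Finset.card_le_card this
    rw [Finset.card_univ, hF] at h
    have h4 := Finset.card_le_two (a := (0 : F)) (b := 1)
    omega
  obtain ⟨p, hp0, hp1⟩ := h3
  have hcube : p ^ 3 = 1 := by
    have h := FiniteField.pow_card_sub_one_eq_one p hp0
    rwa [hF] at h
  have hq : p * p = p + 1 := by
    have h : (p - 1) * (p * p + p + 1) = 0 := by ring_nf; rw [hcube]; ring
    rcases mul_eq_zero.1 h with h | h
    · exact absurd (sub_eq_zero.1 h) hp1
    · linear_combination h - (p + 1) * hp2
  refine ⟨p, p + 1, ?_⟩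
  have e1 : (1 : F) + 1 = 0 := by rw [one_add_one_eq_two, hp2]
  have hinj : (Finset.univ : Finset F) = {0, 1, p, p + 1} := by
    symm
    apply Finset.eq_univ_of_card
    rw [hF]
    have q0 : p + 1 ≠ 0 := fun h => hp1 (by linear_combination h - e1)
    have q1 : p + 1 ≠ 1 := fun h => hp0 (by linear_combination h)
    rw [Finset.card_insert_of_notMem, Finset.card_insert_of_notMem, Finset.card_insert_of_notMem, Finset.card_singleton]
    · simp
    · simp only [Finset.mem_insert, Finset.mem_singleton, not_or]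
      exact ⟨Ne.symm hp1, Ne.symm q1⟩
    · simp only [Finset.mem_insert, Finset.mem_singleton, not_or]
      exact ⟨zero_ne_one, Ne.symm hp0, Ne.symm q0⟩
  refine
    { pp := hq
      pq := by linear_combination hq + (p + 1) * e1 - e1 + hp2 * 0
      qp := ?_
      qq := ?_
      aoo := e1
      app := by linear_combination p * e1
      aqq := by linear_combination (p + 1) * e1
      aop := by ring
      apo := rfl
      aoq := by linear_combination e1
      aqo := by linear_combination e1
      apq := by linear_combination p * e1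
      aqp := by linear_combination p * e1
      p0 := hp0
      q0 := fun h => hp1 (by linear_combination h - e1)
      p1 := hp1
      q1 := fun h => hp0 (by linear_combination h)
      pneq := fun h => one_ne_zero (α := F) (by linear_combination -h)
      all := fun a => by
        have h : a ∈ (Finset.univ : Finset F) := Finset.mem_univ a
        rw [hinj] at h
        simpa using h }
  · linear_combination hq + p * e1
  · linear_combination hq + (p + 1) * e1

namespace Four

variable {F : Type*} [Field F] {p q : F} (h : Four p q)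
include h

theorem sum_eq [Fintype F] {W : Type*} [AddCommMonoid W] (f : F → W) : ∑ a, f a = f 0 + f 1 + f p + f q := by
  classical
  have hinj : (Finset.univ : Finset F) = {0, 1, p, q} := by
    symm
    rw [Finset.eq_univ_iff_forall]
    intro a
    simpa using h.all a
  rw [hinj, Finset.sum_insert, Finset.sum_insert, Finset.sum_insert, Finset.sum_singleton]
  · rw [add_assoc, add_assoc]
  · simpa using h.pneq
  · simp only [Finset.mem_insert, Finset.mem_singleton, not_or]
    exact ⟨h.p1.symm, h.q1.symm⟩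
  · simp only [Finset.mem_insert, Finset.mem_singleton, not_or]
    exact ⟨zero_ne_one, h.p0.symm, h.q0.symm⟩

end Four

/-- constant on the points, with vanishing sums over the lines -/
structure LineSys {F : Type*} [Field F] [Fintype F] [DecidableEq F] {W : Type*} [AddCommGroup W]
    (y : (Fin 3 → F) → W) : Prop where
  zero : y 0 = 0
  smul : ∀ (c : F) (u : Fin 3 → F), c ≠ 0 → y (c • u) = y u
  line : ∀ f : Fin 3 → F, f ≠ 0 → ∑ u with f ⬝ᵥ u = 0, y u = 0

section Plane

variable {F : Type*} [Field F] [Fintype F] [DecidableEq F] {p q : F} (h : Four p q)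
  {W : Type*} [AddCommGroup W] (h2 : ∀ w : W, w + w = 0) {y : (Fin 3 → F) → W}
include h h2

theorem sum_plane (hz : y 0 = 0) (hs : ∀ (c : F) (u : Fin 3 → F), c ≠ 0 → y (c • u) = y u) (u₀ w : Fin 3 → F) :
    ∑ x : F × F, y (x.1 • u₀ + x.2 • w) = y w + ∑ b : F, y (u₀ + b • w) := by
  have h4 : ∀ v : W, v + v + v = v := fun v => by rw [h2, zero_add]
  have key : ∀ a : F, a ≠ 0 → ∑ b : F, y (a • u₀ + b • w) = ∑ b : F, y (u₀ + b • w) := by
    intro a ha
    rw [← Equiv.sum_comp (Equiv.mulLeft₀ a ha) (fun b => y (a • u₀ + b • w))]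
    refine Finset.sum_congr rfl fun b _ => ?_
    rw [← hs a (u₀ + b • w) ha, smul_add, smul_smul]
    rfl
  rw [Fintype.sum_prod_type]
  simp only
  rw [h.sum_eq (fun a => ∑ b : F, y (a • u₀ + b • w)), key 1 one_ne_zero, key p h.p0, key q h.q0]
  have e0 : ∑ b : F, y ((0 : F) • u₀ + b • w) = y w := by
    rw [h.sum_eq]
    simp only [zero_smul, zero_add, one_smul, hz, hs p w h.p0, hs q w h.q0]
    exact h4 _
  rw [e0, add_assoc, add_assoc, ← add_assoc (∑ b : F, y (u₀ + b • w)), h4]

end Plane

section Bound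

variable {F : Type*} [Field F] [Fintype F] [DecidableEq F] {p q : F} (h : Four p q)
  {W : Type*} [AddCommGroup W] [Module (ZMod 2) W] {y : (Fin 3 → F) → W} (hy : LineSys y)

omit [Fintype F] [DecidableEq F] in
theorem self_add (w : W) : w + w = 0 := by
  have h1 : (2 : ZMod 2) • w = w + w := two_smul _ w
  rw [← h1]
  have h3 : (2 : ZMod 2) = 0 := rfl
  rw [h3, zero_smul]

include h hy

theorem rel_slope (m t : F) : y ![0, 1, m] + ∑ a, y ![1, a, m * a + t] = 0 := by
  have h1 := hy.line ![t, m, 1] (fun h0 => one_ne_zero (α := F) (congrFun h0 2))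
  have h3 : ∑ u with ![t, m, 1] ⬝ᵥ u = 0, y u = ∑ x : F × F, y (x.1 • ![1, 0, t] + x.2 • ![0, 1, m]) := by
    symm
    refine Finset.sum_bij (fun x _ => x.1 • ![1, 0, t] + x.2 • ![0, 1, m]) ?_ ?_ ?_ (fun _ _ => rfl)
    · intro x _
      rw [Finset.mem_filter]
      refine ⟨Finset.mem_univ _, ?_⟩
      simp [dotProduct, Fin.sum_univ_three]
      linear_combination (t * x.1 + m * x.2) * h.aoo
    · intro x _ x' _ he
      have e0 := congrFun he 0
      have e1 := congrFun he 1
      simp at e0 e1
      exact Prod.ext e0 e1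
    · intro u hu
      rw [Finset.mem_filter] at hu
      have h5 := hu.2
      simp [dotProduct, Fin.sum_univ_three] at h5
      refine ⟨(u 0, u 1), Finset.mem_univ _, ?_⟩
      ext i
      fin_cases i
      · simp
      · simp
      · simp
        linear_combination h5 - (u 2) * h.aoo
  rw [h3, sum_plane h (fun w => self_add w) hy.zero hy.smul] at h1
  rw [← h1]
  congr 1
  refine Finset.sum_congr rfl fun a _ => ?_
  congr 1
  ext i
  fin_cases i
  · simp
  · simp
  · simp; ring

theorem rel_vert (a : F) : y ![0, 0, 1] + ∑ b, y ![1, a, b] = 0 := by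
  have h1 := hy.line ![a, 1, 0] (fun h0 => one_ne_zero (α := F) (congrFun h0 1))
  have h3 : ∑ u with ![a, 1, 0] ⬝ᵥ u = 0, y u = ∑ x : F × F, y (x.1 • ![1, a, 0] + x.2 • ![0, 0, 1]) := by
    symm
    refine Finset.sum_bij (fun x _ => x.1 • ![1, a, 0] + x.2 • ![0, 0, 1]) ?_ ?_ ?_ (fun _ _ => rfl)
    · intro x _
      rw [Finset.mem_filter]
      refine ⟨Finset.mem_univ _, ?_⟩
      simp [dotProduct, Fin.sum_univ_three]
      linear_combination (a * x.1) * h.aoo
    · intro x _ x' _ he
      have e0 := congrFun he 0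
      have e1 := congrFun he 2
      simp at e0 e1
      exact Prod.ext e0 e1
    · intro u hu
      rw [Finset.mem_filter] at hu
      have h5 := hu.2
      simp [dotProduct, Fin.sum_univ_three] at h5
      refine ⟨(u 0, u 2), Finset.mem_univ _, ?_⟩
      ext i
      fin_cases i
      · simp
      · simp
        linear_combination h5 - (u 1) * h.aoo
      · simp
  rw [h3, sum_plane h (fun w => self_add w) hy.zero hy.smul] at h1
  rw [← h1]
  congr 1
  refine Finset.sum_congr rfl fun b _ => ?_
  congr 1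
  ext i
  fin_cases i <;> simp

theorem rel_inf : y ![0, 0, 1] + ∑ m, y ![0, 1, m] = 0 := by
  have h1 := hy.line ![1, 0, 0] (fun h0 => one_ne_zero (α := F) (congrFun h0 0))
  have h3 : ∑ u with ![1, 0, 0] ⬝ᵥ u = 0, y u = ∑ x : F × F, y (x.1 • ![0, 1, 0] + x.2 • ![0, 0, 1]) := by
    symm
    refine Finset.sum_bij (fun x _ => x.1 • ![0, 1, 0] + x.2 • ![0, 0, 1]) ?_ ?_ ?_ (fun _ _ => rfl)
    · intro x _
      rw [Finset.mem_filter]
      refine ⟨Finset.mem_univ _, ?_⟩
      simp [dotProduct, Fin.sum_univ_three]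
    · intro x _ x' _ he
      have e0 := congrFun he 1
      have e1 := congrFun he 2
      simp at e0 e1
      exact Prod.ext e0 e1
    · intro u hu
      rw [Finset.mem_filter] at hu
      have h5 := hu.2
      simp [dotProduct, Fin.sum_univ_three] at h5
      refine ⟨(u 1, u 2), Finset.mem_univ _, ?_⟩
      ext i
      fin_cases i
      · simp [h5]
      · simp
      · simp
  rw [h3, sum_plane h (fun w => self_add w) hy.zero hy.smul] at h1
  rw [← h1]
  congr 1
  refine Finset.sum_congr rfl fun b _ => ?_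
  congr 1
  ext i
  fin_cases i <;> simp

/-- eleven points which generate -/
def gen (y : (Fin 3 → F) → W) (p q : F) : Fin 11 → W :=
  ![y ![0, 0, 1], y ![0, 1, 1], y ![0, 1, q], y ![1, p, q], y ![1, 1, 1], y ![1, p, 1], y ![1, 0, 0], y ![1, q, p],
    y ![1, 0, 1], y ![0, 1, 0], y ![1, p, p]]

theorem mem_span (u : Fin 3 → F) : y u ∈ Submodule.span (ZMod 2) (Set.range (gen y p q)) := by
  set T := Submodule.span (ZMod 2) (Set.range (gen y p q)) with hT
  have hg : ∀ i, gen y p q i ∈ T := fun i => Submodule.subset_span ⟨i, rfl⟩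
  have g0 : y ![0, 0, 1] ∈ T := hg 0
  have g1 : y ![0, 1, 1] ∈ T := hg 1
  have g2 : y ![0, 1, q] ∈ T := hg 2
  have g3 : y ![1, p, q] ∈ T := hg 3
  have g4 : y ![1, 1, 1] ∈ T := hg 4
  have g5 : y ![1, p, 1] ∈ T := hg 5
  have g6 : y ![1, 0, 0] ∈ T := hg 6
  have g7 : y ![1, q, p] ∈ T := hg 7
  have g8 : y ![1, 0, 1] ∈ T := hg 8
  have g9 : y ![0, 1, 0] ∈ T := hg 9
  have g10 : y ![1, p, p] ∈ T := hg 10
  have five : ∀ {a b c d e : W}, a + (b + c + d + e) = 0 →
      (a ∈ T → b ∈ T → c ∈ T → d ∈ T → e ∈ T) ∧ (a ∈ T → b ∈ T → c ∈ T → e ∈ T → d ∈ T) ∧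
      (a ∈ T → b ∈ T → d ∈ T → e ∈ T → c ∈ T) ∧ (a ∈ T → c ∈ T → d ∈ T → e ∈ T → b ∈ T) := by
    intro a b c d e hr
    refine ⟨fun ha hb hc hd => ?_, fun ha hb hc he => ?_, fun ha hb hd he => ?_, fun ha hc hd he => ?_⟩
    · rw [show e = -(a + b + c + d) by rw [eq_neg_iff_add_eq_zero, ← hr]; abel]
      exact T.neg_mem (T.add_mem (T.add_mem (T.add_mem ha hb) hc) hd)
    · rw [show d = -(a + b + c + e) by rw [eq_neg_iff_add_eq_zero, ← hr]; abel]
      exact T.neg_mem (T.add_mem (T.add_mem (T.add_mem ha hb) hc) he)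
    · rw [show c = -(a + b + d + e) by rw [eq_neg_iff_add_eq_zero, ← hr]; abel]
      exact T.neg_mem (T.add_mem (T.add_mem (T.add_mem ha hb) hd) he)
    · rw [show b = -(a + c + d + e) by rw [eq_neg_iff_add_eq_zero, ← hr]; abel]
      exact T.neg_mem (T.add_mem (T.add_mem (T.add_mem ha hc) hd) he)
  have S01 := rel_slope h hy 0 1
  have S10 := rel_slope h hy 1 0
  have S11 := rel_slope h hy 1 1
  have Sq0 := rel_slope h hy q 0
  have Sqq := rel_slope h hy q q
  have V0 := rel_vert h hy 0
  have V1 := rel_vert h hy 1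
  have Vp := rel_vert h hy p
  have Vq := rel_vert h hy q
  have I := rel_inf h hy
  rw [h.sum_eq] at S01 S10 S11 Sq0 Sqq V0 V1 Vp Vq I
  simp only [zero_mul, mul_zero, mul_one, one_mul, zero_add, add_zero, h.pp, h.pq, h.qp, h.qq, h.aoo, h.app, h.aqq,
    h.aop, h.apo, h.aoq, h.aqo, h.apq, h.aqp] at S01 S10 S11 Sq0 Sqq
  -- `[1,q,1]`
  have a1 : y ![1, q, 1] ∈ T := (five S01).1 g9 g8 g4 g5
  have a2 : y ![1, q, q] ∈ T := (five S10).1 g1 g6 g4 g10
  have a3 : y ![1, 1, 0] ∈ T := (five S11).2.2.1 g1 g8 g3 g7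
  have a4 : y ![1, 1, q] ∈ T := (five Sq0).2.2.1 g2 g6 g5 g7
  have a5 : y ![1, 0, q] ∈ T := (five Sqq).2.2.2 g2 a3 g10 a1
  have a6 : y ![1, 0, p] ∈ T := (five V0).2.1 g0 g6 g8 a5
  have a7 : y ![1, 1, p] ∈ T := (five V1).2.1 g0 a3 g4 a4
  have a8 : y ![1, p, 0] ∈ T := (five Vp).2.2.2 g0 g5 g10 g3
  have a9 : y ![1, q, 0] ∈ T := (five Vq).2.2.2 g0 a1 g7 a2
  have a10 : y ![0, 1, p] ∈ T := (five I).2.1 g0 g9 g1 g2
  have hfin : ∀ a b : F, y ![1, a, b] ∈ T := by
    intro a b
    rcases h.all a with rfl | rfl | rfl | rfl <;> rcases h.all b with rfl | rfl | rfl | rfl <;> assumption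
  have hinf : ∀ m : F, y ![0, 1, m] ∈ T := by
    intro m
    rcases h.all m with rfl | rfl | rfl | rfl <;> assumption
  by_cases h0 : u 0 = 0
  · by_cases h1 : u 1 = 0
    · by_cases h3 : u 2 = 0
      · have : u = 0 := by
          ext i
          fin_cases i
          · exact h0
          · exact h1
          · exact h3
        rw [this, hy.zero]
        exact T.zero_mem
      · rw [← hy.smul (u 2)⁻¹ u (inv_ne_zero h3)]
        have : (u 2)⁻¹ • u = ![0, 0, 1] := by
          ext i
          fin_cases i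
          · simp [h0]
          · simp [h1]
          · simp [h3]
        rw [this]
        exact g0
    · rw [← hy.smul (u 1)⁻¹ u (inv_ne_zero h1)]
      have : (u 1)⁻¹ • u = ![0, 1, (u 1)⁻¹ * u 2] := by
        ext i
        fin_cases i
        · simp [h0]
        · simp [h1]
        · simp
      rw [this]
      exact hinf _
  · rw [← hy.smul (u 0)⁻¹ u (inv_ne_zero h0)]
    have : (u 0)⁻¹ • u = ![1, (u 0)⁻¹ * u 1, (u 0)⁻¹ * u 2] := by
      ext i
      fin_cases i
      · simp [h0]
      · simp
      · simp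
    rw [this]
    exact hfin _ _

/-- **the bound** -/
theorem finrank_le : finrank (ZMod 2) (Submodule.span (ZMod 2) (Set.range y)) ≤ 11 := by
  have h1 : Submodule.span (ZMod 2) (Set.range y) ≤ Submodule.span (ZMod 2) (Set.range (gen y p q)) := by
    rw [Submodule.span_le]
    rintro _ ⟨u, rfl⟩
    exact mem_span h hy u
  have h3 : finrank (ZMod 2) (Submodule.span (ZMod 2) (Set.range (gen y p q))) ≤ 11 := by
    have := finrank_range_le_card (R := ZMod 2) (gen y p q)
    rw [Fintype.card_fin] at this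
    exact this
  have : FiniteDimensional (ZMod 2) (Submodule.span (ZMod 2) (Set.range (gen y p q))) :=
    FiniteDimensional.span_of_finite _ (Set.finite_range _)
  exact (Submodule.finrank_mono h1).trans h3

end Bound

end Cfsg.Agent.H170.L34
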