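import Cfsg.Agent.H902.L34.SL
import Cfsg.Agent.H745.L34.Adj
import Cfsg.Agent.H170.L34.Span

/-!
# `H¹(SL₃(4), sl₃(4)) = 0` (helper170, S5917, row D2)
-/

set_option autoImplicit false
set_option linter.unusedSectionVars false
set_option linter.unusedSimpArgs false
set_option linter.unusedTactic false
set_option linter.unreachableTactic false

namespace Cfsg.Agent.H170.L34

open Matrix Cfsg.Agent.H691.L34 Cfsg.Agent.H745.L34
open Cfsg.Agent.H902.L34 (lo n1 n2 ext3 lo_mul lo_zero n1_sq n2_sq n1_lo n2_lo top_of)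

section der

variable {F : Type} [Field F] [CharP F 2]

theorem w_three {w : F} (hw : w ^ 2 + w + 1 = 0) : w ^ 3 = 1 := by linear_combination (w - 1) * hw

theorem add2 (a : F) : a + a = 0 := CharTwo.add_self_eq_zero a

variable {D : G3 F → M3 F} (hD : ∀ g h, D (g * h) = D g * h.1 + g.1 * D h)
include hD

theorem der_one : D 1 = 0 := by
  have h := hD 1 1
  rw [mul_one] at h
  have e : ((1 : G3 F)).1 = (1 : M3 F) := rfl
  rw [e, mul_one, one_mul] at h
  exact left_eq_add.1 h

/-- a derivation of `SL₃(4)` of trace zero which vanishes on `t` and on the permutation matrix of order three -/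
theorem der_zero {w : F} (hw : w ^ 2 + w + 1 = 0) (hall : ∀ a : F, a = 0 ∨ a = 1 ∨ a = w ∨ a = w ^ 2)
    (tr : ∀ g, (D g * (g⁻¹ : G3 F).1).trace = 0) {t : G3 F} (htv : t.1 = !![w, 0, 0; 0, w ^ 2, 0; 0, 0, 1])
    (ht : D t = 0) (hs : D (n1 * n2) = 0) : ∀ g, D g = 0 := by
  have w3 := w_three hw
  have h2 : (2 : F) = 0 := CharTwo.two_eq_zero
  have hw0 : w ≠ 0 := by rintro rfl; simp at hw
  have hw1 : w ≠ 1 := by
    rintro rfl
    apply one_ne_zero (α := F)
    linear_combination hw - h2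
  have n1v : (n1 : G3 F).1 = !![0, 1, 0; 1, 0, 0; 0, 0, 1] := rfl
  have n2v : (n2 : G3 F).1 = !![1, 0, 0; 0, 0, 1; 0, 1, 0] := rfl
  have lov : ∀ a b c : F, (lo a b c : G3 F).1 = !![1, 0, 0; a, 1, 0; c, b, 1] := fun _ _ _ => rfl
  have mv : ∀ g h : G3 F, (g * h).1 = g.1 * h.1 := fun _ _ => rfl
  -- the first reflection
  have hn1 : D n1 = 0 := by
    have h3 : n1 * t = t * t * n1 := by
      apply Subtype.ext
      rw [mv, mv, mv, htv, n1v]
      ext i j
      fin_cases i <;> fin_cases j <;> simp [Matrix.mul_apply, Fin.sum_univ_three]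
      · ring
      · linear_combination -w * w3
    have h5 : D n1 * t.1 = (t.1 * t.1) * D n1 := by
      have e1 := hD n1 t
      have e2 := hD (t * t) n1
      have e3 := hD t t
      rw [ht, mul_zero, add_zero] at e1
      rw [ht, zero_mul, mul_zero, add_zero] at e3
      rw [e3, zero_mul, zero_add] at e2
      rw [← e1, h3, e2, mv]
    have h7 : (n1 * n2) * n1 * (n1 * n2) = (n1 : G3 F) := by
      have e : n1 * n2 * n1 * (n1 * n2) = (n1 : G3 F) * (n2 * (n1 * n1) * n2) := by group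
      rw [e, n1_sq, mul_one, n2_sq, mul_one]
    have h9 : (n1 * n2 : G3 F).1 * D n1 * (n1 * n2 : G3 F).1 = D n1 := by
      have e1 := hD (n1 * n2 * n1) (n1 * n2)
      have e2 := hD (n1 * n2) n1
      rw [hs, zero_mul, zero_add] at e2
      rw [hs, mul_zero, add_zero, e2, h7] at e1
      exact e1.symm
    have h11 := tr n1
    have hinv : (n1 : G3 F)⁻¹ = n1 := inv_eq_of_mul_eq_one_right n1_sq
    rw [hinv] at h11
    generalize D n1 = X at h5 h9 h11 ⊢
    rw [htv] at h5
    rw [mv, n1v, n2v] at h9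
    rw [n1v] at h11
    have a1 : w - w ^ 2 ≠ 0 := by
      intro h
      have : w * (1 - w) = 0 := by linear_combination h
      rcases mul_eq_zero.1 this with h | h
      · exact hw0 h
      · exact hw1 (by linear_combination -h)
    have a2 : (1 : F) - w ^ 2 ≠ 0 := by
      intro h
      apply hw0
      linear_combination hw + h - h2
    have a3 : (1 : F) - w ≠ 0 := fun h => hw1 (by linear_combination -h)
    have q := fun i j => congrFun (congrFun h5 i) j
    have q00 := q 0 0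
    have q02 := q 0 2
    have q11 := q 1 1
    have q12 := q 1 2
    have q20 := q 2 0
    have q21 := q 2 1
    simp [Matrix.mul_apply, Fin.sum_univ_three] at q00 q02 q11 q12 q20 q21
    have z00 : X 0 0 = 0 := by
      refine (mul_eq_zero.1 (?_ : (w - w ^ 2) * X 0 0 = 0)).resolve_left a1
      linear_combination q00
    have z02 : X 0 2 = 0 := by
      refine (mul_eq_zero.1 (?_ : ((1 : F) - w ^ 2) * X 0 2 = 0)).resolve_left a2
      linear_combination q02
    have z11 : X 1 1 = 0 := by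
      refine (mul_eq_zero.1 (?_ : (w - w ^ 2) * X 1 1 = 0)).resolve_left a1
      linear_combination (-1 : F) * q11 + (-w * X 1 1) * w3
    have z12 : X 1 2 = 0 := by
      refine (mul_eq_zero.1 (?_ : ((1 : F) - w) * X 1 2 = 0)).resolve_left a3
      linear_combination q12 + (w * X 1 2) * w3
    have z20 : X 2 0 = 0 := by
      refine (mul_eq_zero.1 (?_ : ((1 : F) - w) * X 2 0 = 0)).resolve_left a3
      linear_combination (-1 : F) * q20
    have z21 : X 2 1 = 0 := by
      refine (mul_eq_zero.1 (?_ : ((1 : F) - w ^ 2) * X 2 1 = 0)).resolve_left a2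
      linear_combination (-1 : F) * q21
    have r := fun i j => congrFun (congrFun h9 i) j
    have r01 := r 0 1
    have r10 := r 1 0
    simp [Matrix.mul_apply, Fin.sum_univ_three, Matrix.vecMul, dotProduct] at r01 r10
    simp [Matrix.trace, Matrix.mul_apply, Fin.sum_univ_three, Matrix.diag] at h11
    have z01 : X 0 1 = 0 := by linear_combination h11 + r10 - r01 - X 0 1 * h2
    ext i j
    fin_cases i <;> fin_cases j <;> simp [z00, z02, z11, z12, z20, z21, z01]
    · rw [← r10, z01]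
    · rw [r01, z01]
  have hn2 : D n2 = 0 := by
    have e1 := hD n1 (n1 * n2)
    rw [hn1, hs, zero_mul, mul_zero, add_zero, ← mul_assoc, n1_sq, one_mul] at e1
    exact e1
  have hd1 := der_one hD
  -- the root subgroup
  have hmv : ∀ a : F, t.1 * D (lo 0 0 a) = D (lo 0 0 (a * w ^ 2)) * t.1 := by
    intro a
    have h3 : t * lo 0 0 a = lo 0 0 (a * w ^ 2) * t := by
      apply Subtype.ext
      rw [mv, mv, htv, lov, lov]
      ext i j
      fin_cases i <;> fin_cases j <;> simp [Matrix.mul_apply, Fin.sum_univ_three]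
      linear_combination -a * w3
    have e1 := hD t (lo 0 0 a)
    have e2 := hD (lo 0 0 (a * w ^ 2)) t
    rw [ht, zero_mul, zero_add] at e1
    rw [ht, mul_zero, add_zero] at e2
    rw [← e1, h3, e2]
  have c1 : D (lo 0 0 1) * (lo 0 0 1 : G3 F).1 + (lo 0 0 1 : G3 F).1 * D (lo 0 0 1) = 0 := by
    have e := hD (lo 0 0 1) (lo 0 0 1)
    rw [lo_mul] at e
    have e2 : lo ((0 : F) + 0) (0 + 0) (1 + 1 + 0 * 0) = 1 := by
      rw [add_zero, mul_zero, add_zero, add2, lo_zero]
    rw [e2, hd1] at e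
    exact e.symm
  have c3 : D (lo 0 0 w) = D (lo 0 0 1) * (lo 0 0 (w ^ 2) : G3 F).1 + (lo 0 0 1 : G3 F).1 * D (lo 0 0 (w ^ 2)) := by
    rw [← hD, lo_mul]
    congr 2
    · rw [add_zero]
    · rw [add_zero]
    · linear_combination -hw + w * h2
  have m1 := hmv 1
  have m2 := hmv (w ^ 2)
  have em1 : (1 : F) * w ^ 2 = w ^ 2 := one_mul _
  have em2 : w ^ 2 * w ^ 2 = w := by linear_combination w * w3
  rw [em1] at m1
  rw [em2] at m2
  have hY : ∃ q r s : F, D (lo 0 0 1) = !![0, 0, 0; q, 0, 0; r, s, 0] := by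
    generalize D (lo 0 0 1) = Y at c1 c3 m1
    generalize D (lo 0 0 (w ^ 2)) = Y2 at c3 m1 m2
    generalize D (lo 0 0 w) = Y1 at c3 m2
    rw [lov] at c1
    rw [lov, lov] at c3
    rw [htv] at m1 m2
    have q := fun i j => congrFun (congrFun c1 i) j
    have q00 := q 0 0
    have q10 := q 1 0
    have q20 := q 2 0
    have q21 := q 2 1
    simp [Matrix.mul_apply, Fin.sum_univ_three, Matrix.vecMul, dotProduct] at q00 q10 q20 q21
    have z02 : Y 0 2 = 0 := by linear_combination q00 - Y 0 0 * h2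
    have z12 : Y 1 2 = 0 := by linear_combination q10 - Y 1 0 * h2
    have z01 : Y 0 1 = 0 := by linear_combination q21 - Y 2 1 * h2
    have z22 : Y 2 2 = Y 0 0 := by linear_combination q20 - Y 2 0 * h2 - Y 0 0 * h2
    have m100 := congrFun (congrFun m1 0) 0
    have m200 := congrFun (congrFun m2 0) 0
    have m111 := congrFun (congrFun m1 1) 1
    have m211 := congrFun (congrFun m2 1) 1
    have c300 := congrFun (congrFun c3 0) 0
    have c311 := congrFun (congrFun c3 1) 1
    simp [Matrix.mul_apply, Fin.sum_univ_three, Matrix.vecMul, dotProduct] at m100 m200 m111 m211 c300 c311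
    have w20 : w ^ 2 ≠ 0 := pow_ne_zero 2 hw0
    have k1 : Y 0 0 = Y2 0 0 := by
      have : w * (Y 0 0 - Y2 0 0) = 0 := by linear_combination m100
      exact sub_eq_zero.1 ((mul_eq_zero.1 this).resolve_left hw0)
    have k2 : Y2 0 0 = Y1 0 0 := by
      have : w * (Y2 0 0 - Y1 0 0) = 0 := by linear_combination m200
      exact sub_eq_zero.1 ((mul_eq_zero.1 this).resolve_left hw0)
    have k3 : Y 1 1 = Y2 1 1 := by
      have : w ^ 2 * (Y 1 1 - Y2 1 1) = 0 := by linear_combination m111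
      exact sub_eq_zero.1 ((mul_eq_zero.1 this).resolve_left w20)
    have k4 : Y2 1 1 = Y1 1 1 := by
      have : w ^ 2 * (Y2 1 1 - Y1 1 1) = 0 := by linear_combination m211
      exact sub_eq_zero.1 ((mul_eq_zero.1 this).resolve_left w20)
    have z00 : Y 0 0 = 0 := by linear_combination (-1 : F) * c300 - k2 - w ^ 2 * z02
    have z11 : Y 1 1 = 0 := by linear_combination (-1 : F) * c311 - k4
    refine ⟨Y 1 0, Y 2 0, Y 2 1, ?_⟩
    ext i j
    fin_cases i <;> fin_cases j <;> simp [z00, z11, z22, z01, z02, z12]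
  obtain ⟨q, r, u, hY⟩ := hY
  -- the other two lower root subgroups
  have hA : D (lo 0 1 0) = !![0, q, 0; 0, 0, 0; u, r, 0] := by
    have e0 := n1_lo (F := F) 0 1
    have e1 := hD n1 (lo 0 0 1)
    have e2 := hD (lo 0 1 0) n1
    rw [hn1, zero_mul, zero_add] at e1
    rw [hn1, mul_zero, add_zero] at e2
    rw [e0, e2, hY] at e1
    have e3 : D (lo 0 1 0) = D (lo 0 1 0) * (n1 : G3 F).1 * (n1 : G3 F).1 := by
      rw [mul_assoc, ← mv, n1_sq]
      exact (mul_one _).symm
    rw [e3, e1, n1v]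
    ext i j
    fin_cases i <;> fin_cases j <;> simp [Matrix.mul_apply, Fin.sum_univ_three]
  have hC : D (lo 1 0 0) = !![0, 0, 0; r, 0, u; q, 0, 0] := by
    have e0 := n2_lo (F := F) 0 1
    have e1 := hD n2 (lo 0 0 1)
    have e2 := hD (lo 1 0 0) n2
    rw [hn2, zero_mul, zero_add] at e1
    rw [hn2, mul_zero, add_zero] at e2
    rw [e0, e2, hY] at e1
    have e3 : D (lo 1 0 0) = D (lo 1 0 0) * (n2 : G3 F).1 * (n2 : G3 F).1 := by
      rw [mul_assoc, ← mv, n2_sq]
      exact (mul_one _).symm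
    rw [e3, e1, n2v]
    ext i j
    fin_cases i <;> fin_cases j <;> simp [Matrix.mul_apply, Fin.sum_univ_three]
  have hq : q = 0 := by
    have e1 := hD (lo 0 0 1) (lo 0 1 0)
    have e2 := hD (lo 0 1 0) (lo 0 0 1)
    have e3 : lo (0 : F) 0 1 * lo 0 1 0 = lo 0 1 0 * lo 0 0 1 := by
      rw [lo_mul, lo_mul]
      congr 1 <;> ring
    rw [e3, e2, hA, hY, lov, lov] at e1
    have e4 := congrFun (congrFun e1 2) 1
    simp [Matrix.mul_apply, Fin.sum_univ_three, Matrix.vecMul, dotProduct] at e4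
    first
      | exact e4
      | exact e4.symm
      | linear_combination e4
      | linear_combination -e4
  have hu : u = 0 := by
    have e1 := hD (lo 0 0 1) (lo 1 0 0)
    have e2 := hD (lo 1 0 0) (lo 0 0 1)
    have e3 : lo (0 : F) 0 1 * lo 1 0 0 = lo 1 0 0 * lo 0 0 1 := by
      rw [lo_mul, lo_mul]
      congr 1 <;> ring
    rw [e3, e2, hC, hY, lov, lov] at e1
    have e4 := congrFun (congrFun e1 1) 0
    simp [Matrix.mul_apply, Fin.sum_univ_three, Matrix.vecMul, dotProduct] at e4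
    first
      | exact e4
      | exact e4.symm
      | linear_combination e4
      | linear_combination -e4
  rw [hq, hu] at hA hC hY
  have hr : r = 0 := by
    have e1 := hD (lo 0 1 0) (lo 1 0 0)
    have e2 := hD (lo 1 0 0 * lo 0 1 0) (lo 0 0 1)
    have e5 := hD (lo 1 0 0) (lo 0 1 0)
    have e3 : lo (0 : F) 1 0 * lo 1 0 0 = lo 1 0 0 * lo 0 1 0 * lo 0 0 1 := by
      rw [lo_mul, lo_mul, lo_mul]
      congr 1 <;> ring
    rw [e3, e2, e5, hA, hC, hY, mv, lov, lov, lov] at e1
    have e4 := congrFun (congrFun e1 2) 0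
    simp [Matrix.mul_apply, Fin.sum_univ_three, Matrix.vecMul, dotProduct] at e4
    first
      | exact e4
      | exact e4.symm
      | linear_combination e4
      | linear_combination -e4
  rw [hr] at hY
  have hY0 : D (lo 0 0 1) = 0 := by
    rw [hY]
    ext i j
    fin_cases i <;> fin_cases j <;> simp
  -- all root elements
  have htr : IsUnit t.1 := by
    have : t.1.det = 1 := t.2
    rw [Matrix.isUnit_iff_isUnit_det, this]
    exact isUnit_one
  have step : ∀ a : F, D (lo 0 0 a) = 0 → D (lo 0 0 (a * w ^ 2)) = 0 := by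
    intro a ha
    have e := hmv a
    rw [ha, mul_zero] at e
    exact htr.mul_left_eq_zero.1 e.symm
  have hall' : ∀ a : F, D (lo 0 0 a) = 0 := by
    intro a
    have e1 := step 1 hY0
    rw [em1] at e1
    have e2 := step _ e1
    rw [em2] at e2
    rcases hall a with rfl | rfl | rfl | rfl
    · rw [lo_zero, hd1]
    · exact hY0
    · exact e2
    · exact e1
  -- the subgroup
  let K : Subgroup (G3 F) :=
    { carrier := {g | D g = 0}
      one_mem' := hd1
      mul_mem' := fun {a b} ha hb => by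
        show D (a * b) = 0
        have ha' : D a = 0 := ha
        have hb' : D b = 0 := hb
        rw [hD, ha', hb', zero_mul, mul_zero, add_zero]
      inv_mem' := fun {a} ha => by
        show D a⁻¹ = 0
        have ha' : D a = 0 := ha
        have e := hD a a⁻¹
        rw [mul_inv_cancel, hd1, ha', zero_mul, zero_add] at e
        have hau : IsUnit a.1 := by
          have : a.1.det = 1 := a.2
          rw [Matrix.isUnit_iff_isUnit_det, this]
          exact isUnit_one
        exact hau.mul_right_eq_zero.1 e.symm }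
  have hK : K = ⊤ := by
    have k1 : (n1 : G3 F) ∈ K := hn1
    have k2 : (n2 : G3 F) ∈ K := hn2
    refine top_of K ?_ k1 k2
    intro a b c
    have k3 : ∀ a : F, lo 0 0 a ∈ K := hall'
    have k4 : lo 0 b 0 ∈ K := by
      have e : lo 0 b 0 = n1 * lo 0 0 b * n1 := by
        rw [n1_lo, mul_assoc, n1_sq, mul_one]
      rw [e]
      exact K.mul_mem (K.mul_mem k1 (k3 b)) k1
    have k5 : lo a 0 0 ∈ K := by
      have e : lo a 0 0 = n2 * lo 0 0 a * n2 := by
        rw [n2_lo, mul_assoc, n2_sq, mul_one]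
      rw [e]
      exact K.mul_mem (K.mul_mem k2 (k3 a)) k2
    have e : lo a b c = lo a 0 0 * lo 0 b 0 * lo 0 0 c := by
      rw [lo_mul, lo_mul]
      congr 1 <;> ring
    rw [e]
    exact K.mul_mem (K.mul_mem k5 k4) (k3 c)
  intro g
  have : g ∈ K := by rw [hK]; exact Subgroup.mem_top g
  exact this

end der

section h1

variable {F : Type} [Field F] [Fintype F] {V : Type} [AddCommGroup V] [Module (ZMod 2) V]
  {ρ : Representation (ZMod 2) (G3 F) V}

theorem vself (w : V) : w + w = 0 := by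
  have h1 : (2 : ZMod 2) • w = w + w := two_smul _ w
  rw [← h1]
  have h3 : (2 : ZMod 2) = 0 := rfl
  rw [h3, zero_smul]

theorem vsub (a b : V) : a - b = a + b := by
  rw [sub_eq_add_neg, neg_eq_of_add_eq_zero_left (vself b)]

theorem rmul (g h : G3 F) (v : V) : ρ (g * h) v = ρ g (ρ h v) := by
  rw [map_mul]; rfl

theorem rone (v : V) : ρ (1 : G3 F) v = v := by
  rw [map_one]; rfl

/-- the elements `t` and `z` -/
theorem exists_ts (hF : Fintype.card F = 4) : ∃ (w : F) (t z : G3 F), w ^ 2 + w + 1 = 0 ∧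
    (∀ a : F, a = 0 ∨ a = 1 ∨ a = w ∨ a = w ^ 2) ∧ t.1 = !![w, 0, 0; 0, w ^ 2, 0; 0, 0, 1] ∧ z ∈ Subgroup.center (G3 F) ∧
    z.1 = !![w, 0, 0; 0, w, 0; 0, 0, w] := by
  obtain ⟨p, q, h⟩ := exists_four hF
  have hp : p ^ 2 + p + 1 = 0 := by linear_combination h.pp + h.apq + h.aoo
  have hp3 : p ^ 3 = 1 := by linear_combination (p - 1) * hp
  have hz : (!![p, 0, 0; 0, p, 0; 0, 0, p] : M3 F).det = 1 := by
    rw [Matrix.det_fin_three]
    simp
    linear_combination hp3
  have ht : (!![p, 0, 0; 0, p ^ 2, 0; 0, 0, 1] : M3 F).det = 1 := by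
    rw [Matrix.det_fin_three]
    simp
    linear_combination hp3
  obtain ⟨z, hzv⟩ : ∃ z : G3 F, z.1 = !![p, 0, 0; 0, p, 0; 0, 0, p] := ⟨⟨_, hz⟩, rfl⟩
  obtain ⟨t, htv⟩ : ∃ t : G3 F, t.1 = !![p, 0, 0; 0, p ^ 2, 0; 0, 0, 1] := ⟨⟨_, ht⟩, rfl⟩
  refine ⟨p, t, z, hp, ?_, htv, ?_, hzv⟩
  · intro a
    have e : p ^ 2 = q := by rw [pow_two, h.pp]
    rw [e]
    exact h.all a
  · rw [Subgroup.mem_center_iff]
    intro g
    apply Subtype.ext
    show g.1 * z.1 = z.1 * g.1
    rw [hzv]
    have e : (!![p, 0, 0; 0, p, 0; 0, 0, p] : M3 F) = p • 1 := by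
      ext i j
      fin_cases i <;> fin_cases j <;> simp
    rw [e, Matrix.mul_smul, Matrix.smul_mul, mul_one, one_mul]

/-- **`H¹(SL₃(4), sl₃(4)) = 0`** -/
theorem h1_adj (hF : Fintype.card F = 4) (hc : CT ρ) {T M : Submodule (ZMod 2) V} (hT : IsAdj ρ T) (hM : Inv ρ M)
    (_hTM : T ≤ M) (h : ∀ v ∈ M, ∀ g, ρ g v - v ∈ T) : ∀ v ∈ M, ∃ f ∈ M, (∀ g, ρ g f = f) ∧ v - f ∈ T := by
  intro v0 hv0
  have h2 := two0 hF
  have hch : CharP F 2 := CharTwo.of_one_ne_zero_of_two_eq_zero one_ne_zero h2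
  obtain ⟨w, t, z, hw, hall, htv, hz, hzv⟩ := exists_ts hF
  have w3 := w_three hw
  obtain ⟨φ, ha, hi, hr, he⟩ := hT
  obtain ⟨s, hs⟩ : ∃ s : G3 F, s = n1 * n2 := ⟨_, rfl⟩
  have sv : s.1 = !![0, 0, 1; 1, 0, 0; 0, 1, 0] := by
    rw [hs]
    show (n1 : G3 F).1 * (n2 : G3 F).1 = _
    show (!![0, 1, 0; 1, 0, 0; 0, 0, 1] : M3 F) * !![1, 0, 0; 0, 0, 1; 0, 1, 0] = _
    ext i j
    fin_cases i <;> fin_cases j <;> simp [Matrix.mul_apply, Fin.sum_univ_three]
  have mv : ∀ g h : G3 F, (g * h).1 = g.1 * h.1 := fun _ _ => rfl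
  have hsss : s * (s * s) = 1 := by
    apply Subtype.ext
    rw [mv, mv, sv]
    show _ = (1 : M3 F)
    ext i j
    fin_cases i <;> fin_cases j <;> simp [Matrix.mul_apply, Fin.sum_univ_three]
  have httt : t * (t * t) = 1 := by
    apply Subtype.ext
    rw [mv, mv, htv]
    show _ = (1 : M3 F)
    ext i j
    fin_cases i <;> fin_cases j <;> simp [Matrix.mul_apply, Fin.sum_univ_three]
    · linear_combination w3
    · linear_combination (w ^ 3 + 1) * w3
  have hts : t * s = s * t * z := by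
    apply Subtype.ext
    rw [mv, mv, mv, sv, htv, hzv]
    ext i j
    fin_cases i <;> fin_cases j <;> simp [Matrix.mul_apply, Fin.sum_univ_three]
    · ring
    · linear_combination -w3
  have hcomm : ∀ u : V, ρ t (ρ s u) = ρ s (ρ t u) := by
    intro u
    rw [← rmul, hts, rmul, rmul, hc z hz]
  -- the fixed vector of `E`
  obtain ⟨v1, hv1⟩ : ∃ v1, v1 = v0 + (ρ t v0 + ρ t (ρ t v0)) := ⟨_, rfl⟩
  obtain ⟨v2, hv2⟩ : ∃ v2, v2 = v1 + (ρ s v1 + ρ s (ρ s v1)) := ⟨_, rfl⟩
  have t1 : ρ t v1 = v1 := by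
    have e : ρ t (ρ t (ρ t v0)) = v0 := by rw [← rmul, ← rmul, mul_assoc, httt, rone]
    rw [hv1, map_add, map_add, e]
    abel
  have s2 : ρ s v2 = v2 := by
    have e : ρ s (ρ s (ρ s v1)) = v1 := by rw [← rmul, ← rmul, mul_assoc, hsss, rone]
    rw [hv2, map_add, map_add, e]
    abel
  have t2 : ρ t v2 = v2 := by
    rw [hv2, map_add, map_add, hcomm, hcomm, hcomm, t1]
  have m1 : v1 ∈ M := hv1 ▸ M.add_mem hv0 (M.add_mem (hM _ _ hv0) (hM _ _ (hM _ _ hv0)))
  have m2 : v2 ∈ M := hv2 ▸ M.add_mem m1 (M.add_mem (hM _ _ m1) (hM _ _ (hM _ _ m1)))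
  have d1 : v1 - v0 ∈ T := by
    have e : v1 - v0 = ρ t (ρ t v0) - ρ t v0 := by
      rw [hv1, vsub (ρ t (ρ t v0))]
      abel
    rw [e]
    exact h _ (hM _ _ hv0) t
  have d2 : v2 - v1 ∈ T := by
    have e : v2 - v1 = ρ s (ρ s v1) - ρ s v1 := by
      rw [hv2, vsub (ρ s (ρ s v1))]
      abel
    rw [e]
    exact h _ (hM _ _ m1) s
  -- the cocycle
  have hex : ∀ g, ∃ X : M3 F, X.trace = 0 ∧ φ X = ρ g v2 - v2 := fun g => (hr _).1 (h v2 m2 g)
  choose c hc0 hc1 using hex
  have hinj : ∀ X Y : M3 F, X.trace = 0 → Y.trace = 0 → φ X = φ Y → X = Y := by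
    intro X Y hX hY hXY
    have hself : ∀ Z : M3 F, Z + Z = 0 := by
      intro Z
      ext i j
      show Z i j + Z i j = 0
      exact CharTwo.add_self_eq_zero _
    have h3 : φ (X + Y) = 0 := by rw [ha X Y hX hY, hXY, vself]
    have h4 := hi (X + Y) (by rw [Matrix.trace_add, hX, hY, add_zero]) h3
    have h5 : X + Y + Y = Y := by rw [h4, zero_add]
    rwa [add_assoc, hself, add_zero] at h5
  have htr : ∀ (g : G3 F) (X : M3 F), X.trace = 0 → (g.1 * X * (g⁻¹ : G3 F).1).trace = 0 := by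
    intro g X hX
    rw [Matrix.trace_mul_comm, ← mul_assoc]
    have e : (g⁻¹ : G3 F).1 * g.1 = 1 := by
      rw [← mv, inv_mul_cancel]; rfl
    rw [e, one_mul, hX]
  have hco : ∀ g k, c (g * k) = c g + g.1 * c k * (g⁻¹ : G3 F).1 := by
    intro g k
    apply hinj _ _ (hc0 _) (by rw [Matrix.trace_add, hc0, htr _ _ (hc0 _), add_zero])
    rw [ha _ _ (hc0 _) (htr _ _ (hc0 _)), ← he _ _ (hc0 _), hc1, hc1, hc1, rmul, map_sub]
    abel
  have hD : ∀ g k, c (g * k) * (g * k : G3 F).1 = c g * g.1 * k.1 + g.1 * (c k * k.1) := by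
    intro g k
    have e : (g⁻¹ : G3 F).1 * g.1 = 1 := by
      rw [← mv, inv_mul_cancel]; rfl
    rw [hco, mv, add_mul, ← mul_assoc, ← mul_assoc, mul_assoc (g.1 * c k), e, mul_one, mul_assoc, mul_assoc]
  have hzero : ∀ g : G3 F, ρ g v2 = v2 → c g = 0 := by
    intro g hg
    apply hi _ (hc0 g)
    rw [hc1, hg, sub_self]
  have hfin := der_zero (D := fun g => c g * g.1) hD hw hall (fun g => by
    have e : c g * g.1 * (g⁻¹ : G3 F).1 = c g := by
      rw [mul_assoc, ← mv, mul_inv_cancel]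
      exact mul_one _
    rw [e, hc0]) htv (by show c t * t.1 = 0; rw [hzero t t2, zero_mul])
    (by rw [← hs]; show c s * s.1 = 0; rw [hzero s s2, zero_mul])
  refine ⟨v2, m2, fun g => ?_, ?_⟩
  · have e1 : c g * g.1 = 0 := hfin g
    have e2 : c g = 0 := by
      have e : c g * g.1 * (g⁻¹ : G3 F).1 = c g := by
        rw [mul_assoc, ← mv, mul_inv_cancel]
        exact mul_one _
      rw [← e, e1, zero_mul]
    have e3 := hc1 g
    have e4 : φ 0 = 0 := by
      have := ha 0 0 (by simp) (by simp)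
      rw [add_zero] at this
      exact left_eq_add.1 this
    rw [e2, e4] at e3
    exact sub_eq_zero.1 e3.symm
  · have e : v0 - v2 = -((v2 - v1) + (v1 - v0)) := by abel
    rw [e]
    exact T.neg_mem (T.add_mem d2 d1)

end h1

end Cfsg.Agent.H170.L34
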