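import Cfsg.Agent.H170.L34.Span

/-!
# Hermitian matrices of size three over the field with four elements as a module for `SL_3(4)` (helper170, S5917)

`rk u = u u^†`, `dag M = M^†`. Every additive subgroup of the hermitian matrices which is invariant under `M ↦ g M g^†` is
trivial or everything (`herm_irr`).
-/

set_option autoImplicit false
set_option linter.unusedSectionVars false

namespace Cfsg.Agent.H170.L34

open Matrix
open scoped MatrixGroups

section basic

variable {F : Type*} [Field F]

/-- conjugate transpose, `x ↦ x²` -/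
def dag (M : Matrix (Fin 3) (Fin 3) F) : Matrix (Fin 3) (Fin 3) F := fun i j => M j i * M j i

theorem dag_apply (M : Matrix (Fin 3) (Fin 3) F) (i j : Fin 3) : dag M i j = M j i * M j i := rfl

/-- the matrix of rank one `u u^†` -/
def rk (u : Fin 3 → F) : Matrix (Fin 3) (Fin 3) F := fun i j => u i * (u j * u j)

theorem rk_apply (u : Fin 3 → F) (i j : Fin 3) : rk u i j = u i * (u j * u j) := rfl

theorem rk_zero : rk (0 : Fin 3 → F) = 0 := by
  ext i j
  simp [rk]

variable {p q : F} (h : Four p q)
include h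

theorem sq_add (a b : F) : (a + b) * (a + b) = a * a + b * b := by
  linear_combination (a * b) * h.aoo

theorem cube_eq {c : F} (hc : c ≠ 0) : c * (c * c) = 1 := by
  rcases h.all c with rfl | rfl | rfl | rfl
  · exact absurd rfl hc
  · ring
  · rw [h.pp, h.pq]
  · rw [h.qq, h.qp]

theorem four_eq (c : F) : c * c * (c * c) = c := by
  by_cases hc : c = 0
  · rw [hc]; ring
  · linear_combination c * cube_eq h hc

theorem rk_smul (c : F) (u : Fin 3 → F) (hc : c ≠ 0) : rk (c • u) = rk u := by
  ext i j
  simp only [rk_apply, Pi.smul_apply, smul_eq_mul]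
  linear_combination (u i * (u j * u j)) * cube_eq h hc

theorem self_add' (M : Matrix (Fin 3) (Fin 3) F) : M + M = 0 := by
  ext i j
  show M i j + M i j = 0
  linear_combination (M i j) * h.aoo

theorem dag_add (M N : Matrix (Fin 3) (Fin 3) F) : dag (M + N) = dag M + dag N := by
  ext i j
  exact sq_add h _ _

theorem dag_zero : dag (0 : Matrix (Fin 3) (Fin 3) F) = 0 := by
  ext i j
  simp [dag_apply]

theorem dag_mul (M N : Matrix (Fin 3) (Fin 3) F) : dag (M * N) = dag N * dag M := by
  ext i j
  simp only [dag_apply, Matrix.mul_apply, Fin.sum_univ_three]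
  linear_combination (M j 0 * N 0 i * (M j 1 * N 1 i) + M j 0 * N 0 i * (M j 2 * N 2 i) + M j 1 * N 1 i * (M j 2 * N 2 i)) *
    h.aoo

theorem dag_dag (M : Matrix (Fin 3) (Fin 3) F) : dag (dag M) = M := by
  ext i j
  exact four_eq h _

theorem dag_rk (u : Fin 3 → F) : dag (rk u) = rk u := by
  ext i j
  simp only [dag_apply, rk_apply]
  linear_combination (u j * u j) * four_eq h (u i)

theorem rk_mulVec (g : Matrix (Fin 3) (Fin 3) F) (u : Fin 3 → F) : rk (g *ᵥ u) = g * rk u * dag g := by
  ext i j
  simp only [rk_apply, Matrix.mul_apply, Fin.sum_univ_three, Matrix.mulVec, dotProduct, dag_apply]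
  linear_combination ((g i 0 * u 0 + g i 1 * u 1 + g i 2 * u 2) *
    (g j 0 * u 0 * (g j 1 * u 1) + g j 0 * u 0 * (g j 2 * u 2) + g j 1 * u 1 * (g j 2 * u 2))) * h.aoo

theorem dag_act (g M : Matrix (Fin 3) (Fin 3) F) (hM : dag M = M) : dag (g * M * dag g) = g * M * dag g := by
  rw [dag_mul h, dag_mul h, dag_dag h, hM, Matrix.mul_assoc]

end basic

section transitive

variable {F : Type*} [Field F]

/-- `SL_3` is transitive on the non-zero vectors -/
theorem exists_sl (u : Fin 3 → F) (hu : u ≠ 0) : ∃ g : SL(3, F), (g : Matrix (Fin 3) (Fin 3) F) *ᵥ ![1, 0, 0] = u := by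
  by_cases h0 : u 0 = 0
  · by_cases h1 : u 1 = 0
    · have h2 : u 2 ≠ 0 := by
        intro h2
        apply hu
        ext i
        fin_cases i <;> simp [h0, h1, h2]
      refine ⟨⟨!![0, 0, -(u 2)⁻¹; 0, 1, 0; u 2, 0, 0], by rw [Matrix.det_fin_three]; simp [h2]⟩, ?_⟩
      ext i
      fin_cases i <;> simp [Matrix.mulVec, dotProduct, Fin.sum_univ_three, h0, h1]
    · refine ⟨⟨!![0, -(u 1)⁻¹, 0; u 1, 0, 0; u 2, 0, 1], by rw [Matrix.det_fin_three]; simp [h1]⟩, ?_⟩
      ext i
      fin_cases i <;> simp [Matrix.mulVec, dotProduct, Fin.sum_univ_three, h0]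
  · refine ⟨⟨!![u 0, 0, 0; u 1, (u 0)⁻¹, 0; u 2, 0, 1], by rw [Matrix.det_fin_three]; simp [h0]⟩, ?_⟩
    ext i
    fin_cases i <;> simp [Matrix.mulVec, dotProduct, Fin.sum_univ_three]

theorem exists_sl' (u w : Fin 3 → F) (hu : u ≠ 0) (hw : w ≠ 0) :
    ∃ g : SL(3, F), (g : Matrix (Fin 3) (Fin 3) F) *ᵥ u = w := by
  obtain ⟨a, ha⟩ := exists_sl u hu
  obtain ⟨b, hb⟩ := exists_sl w hw
  refine ⟨b * a⁻¹, ?_⟩
  rw [Matrix.SpecialLinearGroup.coe_mul, ← Matrix.mulVec_mulVec, ← ha, Matrix.mulVec_mulVec _ _ (a : Matrix (Fin 3) (Fin 3) F),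
    ← Matrix.SpecialLinearGroup.coe_mul, inv_mul_cancel, Matrix.SpecialLinearGroup.coe_one, Matrix.one_mulVec, hb]

end transitive

section irr

variable {F : Type*} [Field F] {p q : F} (h : Four p q)
include h

/-- an invariant additive subgroup containing a hermitian matrix `≠ 0` contains the matrices of rank one -/
theorem rk_mem (X : AddSubgroup (Matrix (Fin 3) (Fin 3) F))
    (hX : ∀ g : SL(3, F), ∀ M ∈ X, (g : Matrix (Fin 3) (Fin 3) F) * M * dag (g : Matrix (Fin 3) (Fin 3) F) ∈ X)
    {M : Matrix (Fin 3) (Fin 3) F} (hM : M ∈ X) (hd : dag M = M) (h0 : M ≠ 0) (u : Fin 3 → F) : rk u ∈ X := by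
  have htr : ∀ (i j : Fin 3) (_ : i ≠ j) (c : F) (M : Matrix (Fin 3) (Fin 3) F), M ∈ X →
      transvection i j c * M * dag (transvection i j c) ∈ X := by
    intro i j hij c M hM
    exact hX ⟨transvection i j c, det_transvection_of_ne i j hij c⟩ M hM
  have hentry : ∀ (i j : Fin 3) (c : F) (M : Matrix (Fin 3) (Fin 3) F) (a b : Fin 3), i ≠ j →
      (transvection i j c * M * dag (transvection i j c)) a b =
        M a b + (if a = i then c * M j b else 0) + (if b = i then c * c * M a j else 0) +
          (if a = i ∧ b = i then c * (c * c) * M j j else 0) := by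
    intro i j c M a b hij
    have e : dag (transvection i j c) = 1 + Matrix.single j i (c * c) := by
      ext x y
      simp only [dag_apply, transvection, Matrix.add_apply, Matrix.single_apply, Matrix.one_apply]
      by_cases h1 : y = x
      · subst h1
        have : ¬ (i = y ∧ j = y) := fun hh => hij (hh.1.trans hh.2.symm)
        have h3 : ¬ (j = y ∧ i = y) := fun hh => hij (hh.2.trans hh.1.symm)
        simp [this, h3]
      · have h5 : ¬ x = y := fun hh => h1 hh.symm
        by_cases h3 : i = y ∧ j = x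
        · have h4 : j = x ∧ i = y := ⟨h3.2, h3.1⟩
          simp [h1, h5, h3]
        · have h4 : ¬ (j = x ∧ i = y) := fun hh => h3 ⟨hh.2, hh.1⟩
          simp [h1, h3, h4, h5]
    rw [e, transvection]
    rw [Matrix.mul_add, Matrix.mul_one, Matrix.add_apply, Matrix.add_mul, Matrix.one_mul, Matrix.add_apply,
      Matrix.add_mul, Matrix.add_apply]
    have f1 : (Matrix.single i j c * M) a b = if a = i then c * M j b else 0 := by
      by_cases ha : a = i
      · subst ha; simp
      · rw [if_neg ha, Matrix.single_mul_apply_of_ne _ _ _ _ _ ha]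
    have f2 : (M * Matrix.single j i (c * c)) a b = if b = i then c * c * M a j else 0 := by
      by_cases hb : b = i
      · subst hb; simp [mul_comm]
      · rw [if_neg hb, Matrix.mul_single_apply_of_ne _ _ _ _ _ hb]
    have f3 : (Matrix.single i j c * M * Matrix.single j i (c * c)) a b =
        if a = i ∧ b = i then c * (c * c) * M j j else 0 := by
      by_cases hb : b = i
      · subst hb
        by_cases ha : a = b
        · subst ha
          simp
          ring
        · rw [if_neg (fun hh => ha hh.1)]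
          simp [Matrix.single_mul_apply_of_ne _ _ _ _ _ ha]
      · rw [if_neg (fun hh => hb hh.2), Matrix.mul_single_apply_of_ne _ _ _ _ _ hb]
    rw [f1, f2, f3]
    ring
  have hdiag : ∀ (M : Matrix (Fin 3) (Fin 3) F), dag M = M → ∀ i, M i i = 0 ∨ M i i = 1 := by
    intro M hM i
    have h1 : M i i * M i i = M i i := congrFun (congrFun hM i) i
    rcases h.all (M i i) with h3 | h3 | h3 | h3
    · exact Or.inl h3
    · exact Or.inr h3
    · rw [h3, h.pp] at h1; exact absurd h1 h.pneq.symm
    · rw [h3, h.qq] at h1; exact absurd h1 h.pneq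
  -- a matrix with a diagonal entry `1`
  have step1 : ∃ M ∈ X, dag M = M ∧ ∃ j, M j j = 1 := by
    by_cases hcase : ∃ j, M j j = 1
    · exact ⟨M, hM, hd, hcase⟩
    · have hz : ∀ j, M j j = 0 := fun j => by
        rcases hdiag M hd j with h1 | h1
        · exact h1
        · exact absurd ⟨j, h1⟩ hcase
      obtain ⟨i, j, hij⟩ : ∃ i j, M i j ≠ 0 := by
        by_contra hcon
        push Not at hcon
        apply h0
        ext i j
        exact hcon i j
      have hne : i ≠ j := fun he => hij (by rw [he]; exact hz j)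
      have hji : M j i ≠ 0 := by
        intro h1
        have h3 : dag M i j = M i j := congrFun (congrFun hd i) j
        rw [dag_apply, h1, zero_mul] at h3
        exact hij h3.symm
      refine ⟨_, htr i j hne (p * (M j i)⁻¹) M hM, dag_act h _ _ hd, i, ?_⟩
      rw [hentry i j _ M i i hne, if_pos rfl, if_pos rfl, if_pos ⟨rfl, rfl⟩, hz, hz, mul_zero, add_zero, zero_add]
      have h3 : M i j = M j i * M j i := (congrFun (congrFun hd i) j).symm
      rw [h3]
      have h5 : p * (M j i)⁻¹ * M j i = p := by rw [mul_assoc, inv_mul_cancel₀ hji, mul_one]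
      have h6 : p * (M j i)⁻¹ * (p * (M j i)⁻¹) * (M j i * M j i) = p * p := by
        have : p * (M j i)⁻¹ * (p * (M j i)⁻¹) * (M j i * M j i) = (p * (M j i)⁻¹ * M j i) * (p * (M j i)⁻¹ * M j i) := by ring
        rw [this, h5]
      rw [h5, h6, h.pp, h.apq]
  obtain ⟨M, hM, hd, j, hj⟩ := step1
  obtain ⟨i, hij⟩ : ∃ i : Fin 3, i ≠ j := by
    by_cases h1 : j = 0
    · exact ⟨1, by rw [h1]; decide⟩
    · exact ⟨0, fun hh => h1 hh.symm⟩
  have hE : Matrix.single i i (1 : F) ∈ X := by
    have h1 := htr i j hij 1 M hM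
    have h3 := htr i j hij p M hM
    have h5 := htr i j hij q M hM
    have h7 := X.add_mem (X.add_mem (X.add_mem h1 h3) h5) hM
    convert h7 using 1
    ext a b
    rw [Matrix.add_apply, Matrix.add_apply, Matrix.add_apply, hentry _ _ _ _ _ _ hij, hentry _ _ _ _ _ _ hij,
      hentry _ _ _ _ _ _ hij, Matrix.single_apply, hj]
    by_cases ha : a = i <;> by_cases hb : b = i
    · rw [if_pos ⟨ha.symm, hb.symm⟩]
      simp only [if_pos ha, if_pos hb, if_pos (show a = i ∧ b = i from ⟨ha, hb⟩)]
      linear_combination (-2 * M a b) * h.aoo - (M j b) * (h.apq + h.aoo) - (M a j) * (h.pp + h.qq + h.apq + h.aoo) -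
        (p * h.pp + h.pq + q * h.qq + h.qp + h.aoo)
    · rw [if_neg (fun hh => hb hh.2.symm)]
      simp only [if_pos ha, if_neg hb, if_neg (show ¬ (a = i ∧ b = i) from fun hh => hb hh.2)]
      linear_combination (-2 * M a b) * h.aoo - (M j b) * (h.apq + h.aoo)
    · rw [if_neg (fun hh => ha hh.1.symm)]
      simp only [if_neg ha, if_pos hb, if_neg (show ¬ (a = i ∧ b = i) from fun hh => ha hh.1)]
      linear_combination (-2 * M a b) * h.aoo - (M a j) * (h.pp + h.qq + h.apq + h.aoo)
    · rw [if_neg (fun hh => hb hh.2.symm)]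
      simp only [if_neg ha, if_neg hb, if_neg (show ¬ (a = i ∧ b = i) from fun hh => hb hh.2)]
      linear_combination (-2 * M a b) * h.aoo
  have hE' : rk (Pi.single i 1) ∈ X := by
    convert hE using 1
    ext a b
    rw [rk_apply, Matrix.single_apply]
    by_cases ha : a = i
    · subst ha
      by_cases hb : b = a
      · subst hb; simp
      · rw [if_neg (fun hh => hb hh.2.symm)]; simp [hb]
    · rw [if_neg (fun hh => ha hh.1.symm)]; simp [ha]
  by_cases hu : u = 0
  · rw [hu, rk_zero]
    exact X.zero_mem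
  obtain ⟨g, hg⟩ := exists_sl' (Pi.single i (1 : F)) u (by
    intro h1
    exact one_ne_zero (α := F) (by simpa using congrFun h1 i)) hu
  rw [← hg, rk_mulVec h]
  exact hX g _ hE'

/-- the matrices of rank one generate the hermitian matrices -/
theorem herm_le (X : AddSubgroup (Matrix (Fin 3) (Fin 3) F)) (hX : ∀ u, rk u ∈ X) {M : Matrix (Fin 3) (Fin 3) F}
    (hM : dag M = M) : M ∈ X := by
  have hs : ∀ i j, M i j = M j i * M j i := fun i j => (congrFun (congrFun hM i) j).symm
  have key : M = rk ![M 0 0, 0, 0] + rk ![0, M 1 1, 0] + rk ![0, 0, M 2 2] +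
      (rk ![1, M 1 0, 0] + rk ![1, 0, 0] + rk ![0, M 1 0, 0]) +
      (rk ![1, 0, M 2 0] + rk ![1, 0, 0] + rk ![0, 0, M 2 0]) +
      (rk ![0, 1, M 2 1] + rk ![0, 1, 0] + rk ![0, 0, M 2 1]) := by
    have d0 := hs 0 0
    have d1 := hs 1 1
    have d2 := hs 2 2
    have h01 := hs 0 1
    have h02 := hs 0 2
    have h12 := hs 1 2
    ext i j
    fin_cases i <;> fin_cases j
    · simp [rk_apply]
      linear_combination (1 + M 0 0) * d0 - 2 * h.aoo
    · simp [rk_apply]
      linear_combination h01
    · simp [rk_apply]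
      linear_combination h02
    · simp [rk_apply]
    · simp [rk_apply]
      linear_combination (1 + M 1 1) * d1 - (1 + M 1 0 * (M 1 0 * M 1 0)) * h.aoo
    · simp [rk_apply]
      linear_combination h12
    · simp [rk_apply]
    · simp [rk_apply]
    · simp [rk_apply]
      linear_combination (1 + M 2 2) * d2 - (M 2 0 * (M 2 0 * M 2 0) + M 2 1 * (M 2 1 * M 2 1)) * h.aoo
  rw [key]
  refine X.add_mem (X.add_mem (X.add_mem (X.add_mem (X.add_mem (hX _) (hX _)) (hX _)) (X.add_mem (X.add_mem (hX _) (hX _)) (hX _)))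
    (X.add_mem (X.add_mem (hX _) (hX _)) (hX _))) (X.add_mem (X.add_mem (hX _) (hX _)) (hX _))

end irr

section lines

open MvPolynomial in
theorem sum_cubic {F : Type*} [Field F] [Fintype F] (hF : Fintype.card F = 4) (f : Fin 3 → F) (i j : Fin 3) :
    ∑ u : Fin 3 → F, (1 + (f ⬝ᵥ u) ^ 3) * (u i * (u j * u j)) = 0 := by
  classical
  let P : MvPolynomial (Fin 3) F := (1 + (∑ k, C (f k) * X k) ^ 3) * (X i * (X j * X j))
  have hdeg : P.totalDegree < (Fintype.card F - 1) * Fintype.card (Fin 3) := by
    rw [hF, Fintype.card_fin]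
    have h1 : (∑ k, C (f k) * X k : MvPolynomial (Fin 3) F).totalDegree ≤ 1 := by
      refine (totalDegree_finsetSum _ _).trans (Finset.sup_le fun k _ => ?_)
      refine (totalDegree_mul _ _).trans ?_
      rw [totalDegree_C, totalDegree_X]
    have h3 : (1 + (∑ k, C (f k) * X k) ^ 3 : MvPolynomial (Fin 3) F).totalDegree ≤ 3 := by
      refine (totalDegree_add _ _).trans (max_le ?_ ?_)
      · rw [totalDegree_one]; omega
      · exact (totalDegree_pow _ _).trans (by omega)
    have h5 : (X i * (X j * X j) : MvPolynomial (Fin 3) F).totalDegree ≤ 3 := by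
      refine (totalDegree_mul _ _).trans ?_
      have := totalDegree_mul (X j : MvPolynomial (Fin 3) F) (X j)
      rw [totalDegree_X] at this ⊢
      omega
    have h7 := totalDegree_mul (1 + (∑ k, C (f k) * X k) ^ 3 : MvPolynomial (Fin 3) F) (X i * (X j * X j))
    show ((1 + (∑ k, C (f k) * X k) ^ 3) * (X i * (X j * X j)) : MvPolynomial (Fin 3) F).totalDegree < _
    omega
  have h8 := MvPolynomial.sum_eval_eq_zero P hdeg
  rw [← h8]
  refine Finset.sum_congr rfl fun u _ => ?_
  simp [P, dotProduct]

variable {F : Type*} [Field F] [Fintype F] [DecidableEq F] {p q : F} (h : Four p q)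
include h

theorem card_four : Fintype.card F = 4 := by
  have h1 := h.sum_eq (fun _ => (1 : ℕ))
  rw [Finset.sum_const, Finset.card_univ] at h1
  simpa using h1

theorem line_rk (f : Fin 3 → F) : ∑ u with f ⬝ᵥ u = 0, rk u = 0 := by
  ext i j
  rw [Matrix.sum_apply, Finset.sum_filter, Matrix.zero_apply]
  refine Eq.trans (Finset.sum_congr rfl fun u _ => ?_) (sum_cubic (card_four h) f i j)
  by_cases hu : f ⬝ᵥ u = 0
  · rw [if_pos hu, hu, rk_apply]; ring
  · rw [if_neg hu]
    have h3 := cube_eq h hu
    have h5 : (1 : F) + (f ⬝ᵥ u) ^ 3 = 0 := by linear_combination h3 + h.aoo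
    rw [h5, zero_mul]

theorem lineSys_rk : LineSys (rk (F := F)) :=
  { zero := rk_zero
    smul := fun c u hc => rk_smul h c u hc
    line := fun f _ => line_rk h f }

/-- the hermitian matrices as a family -/
def hm (a : Fin 3 → Bool) (b : Fin 3 → F) : Matrix (Fin 3) (Fin 3) F :=
  !![if a 0 then 1 else 0, b 0 * b 0, b 1 * b 1; b 0, if a 1 then 1 else 0, b 2 * b 2; b 1, b 2, if a 2 then 1 else 0]

omit h [Fintype F] [DecidableEq F] in
theorem hm_inj {a a' : Fin 3 → Bool} {b b' : Fin 3 → F} (he : hm a b = hm a' b') : a = a' ∧ b = b' := by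
  have hb : ∀ x y : Bool, (if x then (1 : F) else 0) = (if y then 1 else 0) → x = y := by
    intro x y hxy
    cases x <;> cases y <;> simp at hxy ⊢
  have h00 := congrFun (congrFun he 0) 0
  have h11 := congrFun (congrFun he 1) 1
  have h22 := congrFun (congrFun he 2) 2
  have h10 := congrFun (congrFun he 1) 0
  have h20 := congrFun (congrFun he 2) 0
  have h21 := congrFun (congrFun he 2) 1
  constructor
  · funext i
    fin_cases i
    · exact hb _ _ h00
    · exact hb _ _ h11
    · exact hb _ _ h22
  · funext i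
    fin_cases i
    · exact h10
    · exact h20
    · exact h21

theorem dag_hm (a : Fin 3 → Bool) (b : Fin 3 → F) : dag (hm a b) = hm a b := by
  have hb : ∀ x : Bool, (if x then (1 : F) else 0) * (if x then 1 else 0) = if x then 1 else 0 := by
    intro x
    cases x <;> simp
  ext i j
  fin_cases i <;> fin_cases j
  · exact hb _
  · rfl
  · rfl
  · exact four_eq h _
  · exact hb _
  · rfl
  · exact four_eq h _
  · exact four_eq h _
  · exact hb _

end lines

end Cfsg.Agent.H170.L34
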