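import Cfsg.Agent.H170.L34.Herm
import Cfsg.Agent.H691.L34.Def

/-!
# Simple modules of type nine (helper170, S5917, row M1)

`nine_of_sys` : a simple submodule `W` with a non-zero point system `x` (`ρ g (x u) = x (g u)`, `x` constant on the points)
with vanishing line sums is the module of hermitian matrices.
-/

set_option autoImplicit false
set_option linter.unusedSectionVars false

namespace Cfsg.Agent.H170.L34

open Matrix Cfsg.Agent.H691.L34
open scoped MatrixGroups

section conv

variable {F : Type} [Field F]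

theorem ct_eq (X : M3 F) : ct X = dag X := by
  ext i j
  show (X j i) ^ 2 = X j i * X j i
  rw [pow_two]

theorem hf_iff (X : M3 F) : HF X ↔ dag X = X := by rw [HF, ct_eq]

theorem hact_eq (g : G3 F) (X : M3 F) : hact g X = (g : M3 F) * X * dag (g : M3 F) := by rw [hact, ct_eq]

end conv

/-- a point system for the representation `ρ` -/
structure PSys {F : Type} [Field F] {V : Type} [AddCommGroup V] [Module (ZMod 2) V]
    (ρ : Representation (ZMod 2) (G3 F) V) (x : (Fin 3 → F) → V) : Prop where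
  zero : x 0 = 0
  smul : ∀ (c : F) (u : Fin 3 → F), c ≠ 0 → x (c • u) = x u
  act : ∀ (g : G3 F) (u : Fin 3 → F), ρ g (x u) = x ((g : M3 F) *ᵥ u)

section small

variable {F : Type} [Field F] [Fintype F] [DecidableEq F] {p q : F} (h : Four p q)
  {V : Type} [AddCommGroup V] [Module (ZMod 2) V] {ρ : Representation (ZMod 2) (G3 F) V} {x : (Fin 3 → F) → V}
include h

theorem PSys.ne_zero (hx : PSys ρ x) {u₀ : Fin 3 → F} (h0 : x u₀ ≠ 0) {u : Fin 3 → F} (hu : u ≠ 0) : x u ≠ 0 := by
  intro h1
  have hu0 : u₀ ≠ 0 := fun h3 => h0 (by rw [h3, hx.zero])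
  obtain ⟨g, hg⟩ := exists_sl' u u₀ hu hu0
  apply h0
  rw [← hg, ← hx.act, h1, map_zero]

/-- few values force triviality -/
theorem PSys.card_lt (hx : PSys ρ x) (hl : LineSys x) {u₀ : Fin 3 → F} (h0 : x u₀ ≠ 0) (W : Submodule (ZMod 2) V)
    (hW : ∀ u, x u ∈ W) [Finite W] : 4 < Nat.card W := by
  classical
  by_contra hcon
  have hc4 : Nat.card W ≤ 4 := not_lt.1 hcon
  have hne : ∀ c : F, x ![1, c, 0] ≠ 0 := fun c => hx.ne_zero h h0 fun h1 => one_ne_zero (α := F) (congrFun h1 0)
  -- two equal values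
  obtain ⟨c, c', hcc, he⟩ : ∃ c c' : F, c ≠ c' ∧ x ![1, c, 0] = x ![1, c', 0] := by
    by_contra hno
    push Not at hno
    have hinj : Function.Injective (fun o : Option F => (match o with
        | none => (⟨0, W.zero_mem⟩ : W)
        | some c => ⟨x ![1, c, 0], hW _⟩ : W)) := by
      intro o o' hoo
      cases o with
      | none =>
        cases o' with
        | none => rfl
        | some c' => exact absurd (congrArg Subtype.val hoo).symm (hne c')
      | some c =>
        cases o' with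
        | none => exact absurd (congrArg Subtype.val hoo) (hne c)
        | some c' =>
          by_cases hcc : c = c'
          · rw [hcc]
          · exact absurd (congrArg Subtype.val hoo) (hno c c' hcc)
    have h5 := Nat.card_le_card_of_injective _ hinj
    rw [Finite.card_option, Nat.card_eq_fintype_card, card_four h] at h5
    omega
  -- `x(e₀) = x(e₀ + d e₁)`
  have hd : c' - c ≠ 0 := sub_ne_zero.2 (Ne.symm hcc)
  have h1 : x ![1, 0, 0] = x ![1, c' - c, 0] := by
    have e : ∀ a : F, (transvection (1 : Fin 3) 0 (-c) : M3 F) *ᵥ ![1, a, 0] = ![1, a - c, 0] := by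
      intro a
      ext i
      fin_cases i <;> simp [transvection, Matrix.mulVec, dotProduct, Fin.sum_univ_three, Matrix.single_apply,
        sub_eq_add_neg]
      ring
    have hg := hx.act ⟨transvection (1 : Fin 3) 0 (-c), det_transvection_of_ne 1 0 (by decide) (-c)⟩
    have h3 := hg ![1, c, 0]
    have h5 := hg ![1, c', 0]
    rw [he, h5] at h3
    rw [e, e, sub_self] at h3
    exact h3.symm
  have h3 : ∀ a : F, x ![1, a, 0] = x ![1, 0, 0] := by
    intro a
    by_cases ha : a = 0
    · rw [ha]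
    · have hda : a * (c' - c)⁻¹ ≠ 0 := mul_ne_zero ha (inv_ne_zero hd)
      have hg := hx.act ⟨diagonal ![1, a * (c' - c)⁻¹, (a * (c' - c)⁻¹)⁻¹], by
        rw [Matrix.det_diagonal, Fin.prod_univ_three]
        simp only [Matrix.cons_val_zero, Matrix.cons_val_one, Matrix.cons_val]
        rw [one_mul, mul_inv_cancel₀ hda]⟩
      have h5 := hg ![1, 0, 0]
      have h7 := hg ![1, c' - c, 0]
      rw [← h1, h5] at h7
      have e1 : (diagonal ![1, a * (c' - c)⁻¹, (a * (c' - c)⁻¹)⁻¹] : M3 F) *ᵥ ![1, 0, 0] = ![1, 0, 0] := by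
        ext i
        rw [Matrix.mulVec_diagonal]
        fin_cases i <;> simp
      have e3 : (diagonal ![1, a * (c' - c)⁻¹, (a * (c' - c)⁻¹)⁻¹] : M3 F) *ᵥ ![1, c' - c, 0] = ![1, a, 0] := by
        ext i
        rw [Matrix.mulVec_diagonal]
        fin_cases i <;> simp [inv_mul_cancel_right₀ hd]
      rw [e1, e3] at h7
      exact h7.symm
  have h5 := rel_slope h hl 0 0
  rw [h.sum_eq] at h5
  simp only [zero_mul, add_zero, h3] at h5
  have h7 : x ![0, 1, 0] = 0 := by
    have e : x ![1, 0, 0] + x ![1, 0, 0] = 0 := self_add _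
    have e' : x ![1, 0, 0] + x ![1, 0, 0] + x ![1, 0, 0] + x ![1, 0, 0] = 0 := by
      rw [e, zero_add, e]
    rw [e', add_zero] at h5
    exact h5
  exact hx.ne_zero h h0 (fun h9 => one_ne_zero (α := F) (congrFun h9 1)) h7

end small

section main

variable {F : Type} [Field F] [Fintype F] {V : Type} [AddCommGroup V] [Module (ZMod 2) V] [Module.Finite (ZMod 2) V]
  {ρ : Representation (ZMod 2) (G3 F) V}

theorem zsmul2 {A : Type*} [AddCommGroup A] [Module (ZMod 2) A] (c : ZMod 2) (a : A) : c • a = 0 ∨ c • a = a := by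
  have : c = 0 ∨ c = 1 := by revert c; decide
  rcases this with rfl | rfl
  · exact Or.inl (zero_smul _ _)
  · exact Or.inr (one_smul _ _)

/-- **type nine** -/
theorem nine_of_sys (hF : Fintype.card F = 4) {W : Submodule (ZMod 2) V} (hW : Simp ρ W) {x : (Fin 3 → F) → V}
    (hx : PSys ρ x) (hxW : ∀ u, x u ∈ W) (hne : ∃ u, x u ≠ 0)
    (hl : ∀ f : Fin 3 → F, f ≠ 0 → ∑ᶠ u : {u : Fin 3 → F // f ⬝ᵥ u = 0}, x u = 0) : IsNine ρ false W := by
  classical
  obtain ⟨p, q, h⟩ := exists_four hF
  obtain ⟨u₀, h0⟩ := hne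
  obtain ⟨hWi, hW0, hWs⟩ := hW
  have hlx : LineSys x :=
    { zero := hx.zero
      smul := hx.smul
      line := fun f hf => by
        rw [← hl f hf, finsum_eq_sum_of_fintype, ← Finset.sum_subtype_eq_sum_filter, Finset.subtype_univ] }
  let mF : Module (ZMod 2) F := AddCommGroup.zmodModule (n := 2) fun a => by
    rw [two_nsmul]
    linear_combination a * h.aoo
  let y : (Fin 3 → F) → V × M3 F := fun u => (x u, rk u)
  have hy : LineSys y :=
    { zero := by show (x 0, rk 0) = 0; rw [hx.zero, rk_zero]; rfl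
      smul := fun c u hc => by show (x _, rk _) = (x _, rk _); rw [hx.smul c u hc, rk_smul h c u hc]
      line := fun f hf => by
        rw [Prod.ext_iff, Prod.fst_sum, Prod.snd_sum]
        exact ⟨hlx.line f hf, line_rk h f⟩ }
  let P : Submodule (ZMod 2) (V × M3 F) := Submodule.span (ZMod 2) (Set.range y)
  have hbound : Module.finrank (ZMod 2) P ≤ 11 := finrank_le h hy
  have hyP : ∀ u, (x u, rk u) ∈ P := fun u => Submodule.subset_span ⟨u, rfl⟩
  -- properties of `P`
  have hP1 : ∀ z ∈ P, z.1 ∈ W ∧ dag z.2 = z.2 := by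
    intro z hz
    induction hz using Submodule.span_induction with
    | mem z hz =>
      obtain ⟨u, rfl⟩ := hz
      exact ⟨hxW u, dag_rk h u⟩
    | zero => exact ⟨W.zero_mem, dag_zero h⟩
    | add a b _ _ ha hb =>
      exact ⟨W.add_mem ha.1 hb.1, by rw [Prod.snd_add, dag_add h, ha.2, hb.2]⟩
    | smul c a _ ha =>
      rcases zsmul2 c a with h1 | h1
      · rw [h1]; exact ⟨W.zero_mem, dag_zero h⟩
      · rw [h1]; exact ha
  have hP2 : ∀ (g : G3 F), ∀ z ∈ P, (ρ g z.1, (g : M3 F) * z.2 * dag (g : M3 F)) ∈ P := by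
    intro g z hz
    induction hz using Submodule.span_induction with
    | mem z hz =>
      obtain ⟨u, rfl⟩ := hz
      have := hyP ((g : M3 F) *ᵥ u)
      rw [rk_mulVec h, ← hx.act] at this
      exact this
    | zero =>
      have : (ρ g (0 : V × M3 F).1, (g : M3 F) * (0 : V × M3 F).2 * dag (g : M3 F)) = 0 := by
        rw [Prod.fst_zero, Prod.snd_zero, map_zero, Matrix.mul_zero, Matrix.zero_mul]; rfl
      rw [this]
      exact P.zero_mem
    | add a b _ _ ha hb =>
      have : (ρ g (a + b).1, (g : M3 F) * (a + b).2 * dag (g : M3 F)) =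
          (ρ g a.1, (g : M3 F) * a.2 * dag (g : M3 F)) + (ρ g b.1, (g : M3 F) * b.2 * dag (g : M3 F)) := by
        rw [Prod.fst_add, Prod.snd_add, map_add, Matrix.mul_add, Matrix.add_mul]; rfl
      rw [this]
      exact P.add_mem ha hb
    | smul c a _ ha =>
      rcases zsmul2 c a with h1 | h1
      · rw [h1]
        have : (ρ g (0 : V × M3 F).1, (g : M3 F) * (0 : V × M3 F).2 * dag (g : M3 F)) = 0 := by
          rw [Prod.fst_zero, Prod.snd_zero, map_zero, Matrix.mul_zero, Matrix.zero_mul]; rfl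
        rw [this]
        exact P.zero_mem
      · rw [h1]; exact ha
  -- the three subspaces
  let W1 : Submodule (ZMod 2) V := P.comap (LinearMap.inl (ZMod 2) V (M3 F))
  have hW1 : ∀ v, v ∈ W1 ↔ (v, (0 : M3 F)) ∈ P := fun v => Iff.rfl
  let W2 : Submodule (ZMod 2) V := P.map (LinearMap.fst (ZMod 2) V (M3 F))
  have hW2 : ∀ v, v ∈ W2 ↔ ∃ M, (v, M) ∈ P := by
    intro v
    constructor
    · rintro ⟨z, hz, rfl⟩; exact ⟨z.2, hz⟩
    · rintro ⟨M, hM⟩; exact ⟨_, hM, rfl⟩
  let X0 : AddSubgroup (M3 F) := P.toAddSubgroup.comap (AddMonoidHom.inr V (M3 F))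
  have hX0 : ∀ M, M ∈ X0 ↔ ((0 : V), M) ∈ P := fun M => Iff.rfl
  let X1 : AddSubgroup (M3 F) := P.toAddSubgroup.map (AddMonoidHom.snd V (M3 F))
  have hX1 : ∀ M, M ∈ X1 ↔ ∃ v, (v, M) ∈ P := by
    intro M
    constructor
    · rintro ⟨z, hz, rfl⟩; exact ⟨z.1, hz⟩
    · rintro ⟨v, hv⟩; exact ⟨_, hv, rfl⟩
  have hall : ∀ M : M3 F, dag M = M → ∃ v, (v, M) ∈ P := fun M hM =>
    (hX1 M).1 (herm_le h X1 (fun u => (hX1 _).2 ⟨_, hyP u⟩) hM)
  have hW1i : Inv ρ W1 := by
    intro g v hv
    have := hP2 g _ hv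
    rw [hW1]
    have e : (g : M3 F) * (0 : M3 F) * dag (g : M3 F) = 0 := by rw [Matrix.mul_zero, Matrix.zero_mul]
    rw [← e]
    exact this
  have hW2i : Inv ρ W2 := by
    intro g v hv
    obtain ⟨M, hM⟩ := (hW2 v).1 hv
    exact (hW2 _).2 ⟨_, hP2 g _ hM⟩
  have hW2e : W2 = W := by
    rcases hWs W2 hW2i (fun v hv => by obtain ⟨M, hM⟩ := (hW2 v).1 hv; exact (hP1 _ hM).1) with h1 | h1
    · exfalso
      apply h0
      have : x u₀ ∈ W2 := (hW2 _).2 ⟨_, hyP u₀⟩
      rw [h1] at this
      exact (Submodule.mem_bot _).1 this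
    · exact h1
  rcases hWs W1 hW1i (fun v hv => (hP1 _ hv).1) with h1 | h1
  · -- the graph case
    have huniq : ∀ {v v' : V} {M : M3 F}, (v, M) ∈ P → (v', M) ∈ P → v = v' := by
      intro v v' M hv hv'
      have h3 := P.sub_mem hv hv'
      have e : ((v, M) - (v', M) : V × M3 F) = (v - v', 0) := by
        rw [Prod.mk_sub_mk, sub_self]
      rw [e] at h3
      have h5 : v - v' ∈ W1 := h3
      rw [h1, Submodule.mem_bot] at h5
      exact sub_eq_zero.1 h5
    have hX0b : ∀ M, M ∈ X0 → M = 0 := by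
      intro M hM
      by_contra hM0
      have h3 : ∀ u, rk u ∈ X0 := rk_mem h X0 (fun g N hN => by
        have := hP2 g _ hN
        rw [hX0]
        have e : ρ g (0 : V) = 0 := map_zero _
        rw [← e]
        exact this) hM (hP1 _ hM).2 hM0
      exact h0 (huniq (hyP u₀) ((hX0 _).1 (h3 u₀)))
    let φ : M3 F → V := fun M => if hM : ∃ v, (v, M) ∈ P then hM.choose else 0
    have hφ : ∀ M, dag M = M → (φ M, M) ∈ P := by
      intro M hM
      have h3 := hall M hM
      show ((if hM : ∃ v, (v, M) ∈ P then hM.choose else 0), M) ∈ P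
      rw [dif_pos h3]
      exact h3.choose_spec
    refine ⟨φ, ?_, ?_, ?_, ?_⟩
    · intro X Y hX hY
      rw [hf_iff] at hX hY
      exact huniq (hφ _ (by rw [dag_add h, hX, hY])) (P.add_mem (hφ X hX) (hφ Y hY))
    · intro X hX hz
      rw [hf_iff] at hX
      have := hφ X hX
      rw [hz] at this
      exact hX0b X this
    · intro v
      constructor
      · intro hv
        rw [← hW2e] at hv
        obtain ⟨M, hM⟩ := (hW2 v).1 hv
        have h3 := (hP1 _ hM).2
        exact ⟨M, (hf_iff M).2 h3, huniq (hφ M h3) hM⟩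
      · rintro ⟨X, hX, rfl⟩
        exact (hP1 _ (hφ X ((hf_iff X).1 hX))).1
    · intro g X hX
      rw [hf_iff] at hX
      have h3 := hP2 g _ (hφ X hX)
      have h5 : tw (F := F) false g = g := rfl
      rw [h5, hact_eq]
      exact huniq h3 (hφ _ (dag_act h _ _ hX))
  · -- too small
    exfalso
    have hWP : ∀ v ∈ W, (v, (0 : M3 F)) ∈ P := fun v hv => by
      rw [← h1] at hv
      exact hv
    have hHP : ∀ M, dag M = M → ((0 : V), M) ∈ P := by
      intro M hM
      obtain ⟨v, hv⟩ := hall M hM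
      have h3 := P.sub_mem hv (hWP v (hP1 _ hv).1)
      have e : ((v, M) - (v, (0 : M3 F)) : V × M3 F) = (0, M) := by
        rw [Prod.mk_sub_mk, sub_self, sub_zero]
      rw [e] at h3
      exact h3
    have : Finite V := Module.finite_of_finite (ZMod 2)
    have hinj : Function.Injective (fun t : W × (Fin 3 → Bool) × (Fin 3 → F) =>
        (⟨((t.1 : V), hm t.2.1 t.2.2), by
          have h3 := P.add_mem (hWP t.1 t.1.2) (hHP _ (dag_hm h t.2.1 t.2.2))
          have e : (((t.1 : V), (0 : M3 F)) + ((0 : V), hm t.2.1 t.2.2) : V × M3 F) = ((t.1 : V), hm t.2.1 t.2.2) := by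
            rw [Prod.mk_add_mk, add_zero, zero_add]
          rw [e] at h3
          exact h3⟩ : P)) := by
      intro t t' htt
      have h3 := congrArg Subtype.val htt
      have h5 := congrArg Prod.fst h3
      have h7 := hm_inj (congrArg Prod.snd h3)
      exact Prod.ext (Subtype.ext h5) (Prod.ext h7.1 h7.2)
    have hcard := Nat.card_le_card_of_injective _ hinj
    rw [Nat.card_prod, Nat.card_prod, Nat.card_fun, Nat.card_fun] at hcard
    have hP11 : Nat.card P ≤ 2 ^ 11 := by
      rw [Module.natCard_eq_pow_finrank (K := ZMod 2) (V := P), Nat.card_zmod]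
      exact Nat.pow_le_pow_right (by norm_num) hbound
    have h4 := hx.card_lt h hlx h0 W hxW
    have e1 : Nat.card Bool = 2 := by simp
    have e3 : Nat.card F = 4 := by rw [Nat.card_eq_fintype_card, hF]
    have e5 : Nat.card (Fin 3) = 3 := by simp
    rw [e1, e3, e5] at hcard
    norm_num at hcard hP11
    omega

end main

end Cfsg.Agent.H170.L34
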